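import Cfsg.Agent.CGT.Orc
import Cfsg.Agent.JTH.Cert
import Cfsg.Agent.JTY.Cert

set_option autoImplicit false
set_option Elab.async false
set_option maxRecDepth 100000
set_option linter.all false

namespace Cfsg.Agent.JT
open Cfsg.Agent.CGT

noncomputable def WH : List (List ℕ) := [[], [4], [5], [4, 3, 14], [5, 10], [14, 2], [2, 5], [2], [2, 4], [3, 3, 14], [3, 4, 10], [2, 10, 14, 10], [10, 4], [10, 5], [10], [2, 14, 2], [4, 2, 4], [4, 2], [2, 4, 2], [10, 3, 10], [3, 10, 14], [2, 2, 4], [2, 2, 5], [2, 2], [2, 10, 14], [2, 5, 3], [3, 14, 2], [3, 14], [4, 10], [3, 5, 14], [14], [4, 14], [5, 14], [4, 3], [10, 3], [2, 14, 10], [2, 5, 14], [2, 14], [2, 4, 14], [3, 3], [10, 2], [3, 3, 5], [5, 3], [5, 3, 5], [10, 14], [14, 3], [2, 4, 3], [2, 10, 3], [3, 10,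 4], [2, 14, 3], [3, 10], [10, 2, 10], [10, 14, 10], [2, 2, 14], [2, 10], [5, 2], [14, 10], [3], [3, 4], [3, 5], [0], [0, 4], [0, 5], [0, 4, 3, 14], [0, 5, 10], [0, 14, 2], [0, 3, 3, 14], [0, 3, 4, 10], [0, 2, 10, 14, 10], [0, 2, 5], [0, 2], [0, 2, 4], [0, 10, 4], [0, 10, 5], [0, 10], [0, 2, 4, 2], [0, 10, 3, 10], [0, 3, 10, 14], [0, 2, 14, 2], [0, 4, 2, 4], [0, 4, 2], [0, 2, 10, 14], [0, 2, 5, 3], [0, 3, 14, 2], [0, 2, 2, 4], [0, 2, 2, 5], [0, 2, 2], [0, 3, 14], [0, 4, 10], [0, 3, 5, 14], [0, 14], [0, 4, 14], [0, 5, 14], [0, 4, 3], [0, 10, 3], [0, 2, 14, 10], [0, 3, 3], [0, 10, 2], [0, 3, 3, 5], [0, 2, 5, 14], [0, 2, 14], [0, 2, 4, 14], [0, 5, 3], [0, 5, 3, 5], [0, 10, 14], [0, 3, 10, 4], [0, 2, 14, 3], [0, 3, 10], [0, 14, 3], [0, 2, 4, 3], [0, 2, 10,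 3], [0, 2, 10], [0, 5, 2], [0, 14, 10], [12, 2, 12], [0, 10, 14, 10], [0, 2, 2, 14], [0, 3], [0, 3, 4], [0, 3, 5], [6, 14], [4, 6, 14], [5, 6, 14], [2, 0], [2, 0, 5], [2, 0, 4], [6, 10, 2], [4, 2, 0, 2], [6, 3, 3], [4, 6, 3], [6, 10, 3], [2, 0, 14, 10], [4, 2, 0, 4], [2, 0, 14, 2], [4, 2, 0], [2, 0, 14, 3], [6, 3, 10], [4, 6, 3, 3], [5, 6, 3], [5, 6, 3, 5], [6, 10, 14], [6, 3, 14], [4, 6, 10], [4, 6, 10, 5], [2, 0, 2, 5], [2, 0, 2, 4], [2, 0, 2], [5, 2, 0], [6, 14, 10], [2, 0, 10], [6], [4, 6], [5, 6], [2, 0, 14], [2, 0, 5, 14], [2, 0, 4, 14], [2, 12, 2, 12], [2, 0, 10, 14, 10], [6, 3, 3, 14], [4, 6, 3, 14], [5, 6, 10], [6, 14, 2], [2, 0, 4, 3], [6, 14, 3], [2, 0, 10, 3], [6, 10, 3, 10], [6, 3, 10, 14], [2, 0, 4, 2], [6, 10, 4], [6, 10, 5], [6, 10], [6,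 3], [6, 3, 4], [6, 3, 5], [6, 10, 14, 10], [6, 10, 2, 10], [2, 0, 2, 14], [0, 3, 5, 12], [3, 14, 2, 6], [2, 0, 10, 14], [0, 6, 14], [0, 4, 6, 14], [0, 5, 6, 14], [0, 6, 10, 2], [0, 4, 2, 0, 2], [0, 6, 3, 3], [0, 2, 0], [0, 2, 0, 5], [0, 2, 0, 4], [0, 4, 6, 3], [0, 6, 10, 3], [2, 8, 14, 12], [0, 2, 0, 14, 3], [0, 6, 3, 10], [0, 4, 6, 3, 3], [0, 4, 2, 0, 4], [0, 2, 0, 14, 2], [0, 4, 2, 0], [0, 5, 6, 3], [0, 5, 6, 3, 5], [0, 6, 10, 14], [0, 6, 3, 14], [0, 4, 6, 10], [0, 4, 6, 10, 5], [0, 5, 2, 0], [0, 6, 14, 10], [0, 2, 0, 10], [0, 2, 0, 2, 5], [0, 2, 0, 2, 4], [0, 2, 0, 2], [0, 6], [0, 4, 6], [0, 5, 6], [0, 2, 12, 2, 12], [2, 0, 12, 14, 12], [0, 6, 3, 3, 14], [0, 2, 0, 14], [0, 2, 0, 5, 14], [0, 2, 0, 4, 14], [0, 4, 6, 3, 14], [0, 5, 6, 10], [0, 6, 14,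 2], [0, 6, 10, 3, 10], [0, 6, 3, 10, 14], [0, 2, 0, 4, 2], [0, 2, 0, 4, 3], [0, 6, 14, 3], [2, 12, 3, 0], [0, 6, 10, 4], [0, 6, 10, 5], [0, 6, 10], [0, 6, 3], [0, 6, 3, 4], [0, 6, 3, 5], [3, 5, 12], [3, 5, 12, 5], [3, 5, 12, 4], [0, 6, 10, 14, 10], [0, 6, 10, 2, 10], [0, 2, 0, 2, 14], [2, 6, 14, 10], [10, 3, 0], [4, 3, 0], [2, 4, 6, 14], [2, 6, 14], [2, 5, 6, 14], [0, 10, 14, 12, 3], [0, 3, 12, 5, 10], [0, 3, 12, 14, 2], [2, 6, 3], [2, 6, 3, 5], [2, 6, 3, 4], [2, 2, 0], [0, 3, 12, 2], [2, 2, 0, 5], [0, 3, 12, 3], [2, 6, 10, 5], [2, 6, 10], [2, 6, 10, 2], [0, 3, 12, 10, 5], [0, 3, 12, 10], [2, 6, 10, 3, 10], [0, 10, 14, 12, 10], [0, 3, 12, 2, 2], [2, 4, 6, 3], [2, 6, 10, 3], [2, 2, 0, 14, 10], [0, 3, 12, 14], [2, 4, 2, 0], [12, 3, 12], [14, 2, 6], [5,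 6, 12], [4, 3, 0, 14], [2, 4, 6], [2, 6], [2, 5, 6], [12, 4, 14, 12], [2, 2, 0, 2], [0, 12, 2, 6], [2, 6, 3, 14], [2, 4, 6, 10, 5], [2, 4, 6, 10], [2, 2, 0, 14], [10, 2, 6, 12], [0, 10, 14, 12], [2, 5, 6, 3], [0, 3, 12, 4, 10], [2, 6, 10, 14], [0, 3, 12, 5, 3], [4, 3, 0, 14, 10], [0, 3, 12, 10, 14], [2, 2, 0, 14, 3], [2, 6, 3, 10], [14, 2, 6, 10], [2, 4, 6, 3, 14], [2, 5, 6, 10], [2, 6, 14, 2], [0, 3, 12], [0, 3, 12, 4], [0, 3, 12, 5], [0, 2, 6, 14, 10], [0, 10, 3, 0], [0, 4, 3, 0], [10, 14, 12, 3], [3, 12, 5, 10], [3, 12, 14, 2], [3, 12, 2, 10], [0, 2, 6, 14], [3, 12, 14, 10], [0, 2, 6, 3], [3, 12, 3, 3], [0, 2, 6, 3, 4], [3, 12, 3], [3, 12, 3, 4], [0, 2, 6, 10], [0, 2, 2, 0], [3, 12, 2], [3, 12, 2, 4], [3, 12, 10, 4], [3, 12, 10, 5], [3, 12, 10], [3,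 12, 2, 2, 5], [10, 14, 12, 10], [3, 12, 2, 2], [3, 12, 14], [3, 12, 4, 14], [0, 12, 3, 12], [3, 3, 0, 12], [0, 2, 6, 10, 3], [3, 3, 0, 12, 5], [0, 14, 2, 6], [0, 5, 6, 12], [0, 4, 3, 0, 14], [3, 12, 4, 3], [3, 12, 10, 3], [12, 2, 6], [4, 14, 12], [0, 2, 6], [0, 2, 5, 6], [0, 2, 6, 3, 14], [2, 4, 8, 12, 5], [2, 4, 8, 12], [3, 12, 3, 14], [3, 12, 4, 10], [0, 2, 6, 10, 14], [10, 14, 12, 5], [3, 12, 2, 14], [10, 14, 12], [3, 12, 5, 3], [3, 12, 5, 3, 5], [3, 12, 10, 14], [2, 4, 8, 12, 2], [3, 0, 2, 12], [0, 14, 2, 6, 10], [3, 12], [3, 12, 4], [3, 12, 5], [3, 3, 0, 12, 14], [0, 2, 5, 6, 10], [3, 12, 3, 10], [2, 0, 5, 6, 14], [2, 0, 6, 14], [5, 12, 4, 2], [5, 3, 0, 12], [0, 3, 0, 3, 0], [0, 10, 2, 6, 0], [5, 12], [5, 12, 4], [5, 12, 5], [5, 12, 5, 3], [0, 2,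 0, 4, 12], [5, 12, 10, 14], [5, 12, 3], [5, 12, 3, 4], [5, 12, 3, 5], [5, 12, 2, 5], [5, 12, 2], [2, 0, 2, 0], [2, 0, 5, 6, 3], [2, 0, 6, 10, 14], [3, 8, 10, 4, 12], [2, 0, 4, 6, 3], [14, 3, 12, 10], [5, 12, 2, 2], [3, 14, 2, 12], [6, 0, 3, 12], [2, 0, 6, 14, 3], [0, 3, 14, 12], [5, 12, 5, 10], [5, 12, 14, 2], [2, 0, 5, 6], [2, 0, 6], [2, 0, 4, 6], [5, 3, 0, 12, 14], [14, 12, 2, 6], [5, 12, 3, 10], [5, 12, 14], [4, 6, 3, 0], [5, 12, 5, 14], [2, 0, 6, 3], [5, 12, 10, 5], [5, 12, 10], [5, 12, 3, 14], [5, 12, 4, 10], [0, 3, 14, 12, 10], [14, 3, 12, 5], [5, 12, 2, 14], [14, 3, 12], [5, 12, 10, 2], [2, 0, 6, 10], [2, 0, 6, 10, 5], [0, 5, 2, 12, 5], [0, 5, 2, 12], [0, 5, 2, 12, 4], [5, 12, 2, 10], [5, 12, 5, 2], [5, 12, 14, 10], [5, 12, 4, 3], [5, 12, 10, 3],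 [0, 5, 2, 12, 2], [0, 5, 3, 0, 12], [3, 0, 3, 0], [10, 2, 6, 0], [5, 2, 12, 3, 4], [5, 2, 12, 3], [0, 5, 12, 4, 2], [0, 5, 12], [0, 5, 12, 4], [0, 5, 12, 5], [0, 5, 12, 5, 3], [2, 0, 4, 12], [0, 5, 12, 10, 14], [0, 5, 12, 3], [0, 5, 12, 3, 4], [6, 3, 10, 12], [5, 2, 12, 10, 14], [2, 0, 4, 12, 3], [3, 14, 12, 10, 2], [0, 5, 12, 2, 5], [0, 5, 12, 2], [0, 2, 0, 2, 0], [0, 3, 14, 2, 12], [6, 3, 8, 12], [2, 12, 5, 2, 12], [3, 0, 3, 0, 10], [5, 2, 12, 14], [0, 5, 12, 2, 2], [3, 14, 12], [3, 14, 12, 5], [3, 14, 12, 4], [0, 5, 3, 0, 12, 14], [0, 14, 12, 2, 6], [0, 5, 12, 3, 10], [0, 2, 0, 5, 6], [0, 2, 0, 6], [0, 2, 0, 4, 6], [0, 5, 12, 14], [0, 4, 6, 3, 0], [0, 5, 12, 5, 14], [0, 2, 0, 6, 3], [0, 5, 12, 10, 5], [0, 5, 12, 10], [12, 10, 4, 12], [0, 5, 12, 4,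 10], [3, 14, 12, 10], [5, 2, 12, 10], [0, 2, 0, 6, 10], [5, 2, 12, 10, 4], [0, 14, 3, 12, 5], [0, 5, 12, 2, 14], [0, 14, 3, 12], [0, 5, 12, 2, 10], [0, 5, 12, 5, 2], [0, 5, 12, 14, 10], [5, 2, 12, 5], [5, 2, 12], [5, 2, 12, 4], [3, 14, 12, 14], [0, 5, 12, 10, 3], [5, 2, 12, 2], [6, 12, 14], [5, 3, 0], [2, 12, 3, 12], [2, 10, 3, 0], [14, 3, 0], [2, 4, 3, 0], [0, 3, 4, 12, 3], [2, 2, 5, 6, 10], [6, 12, 3, 10], [2, 2, 6, 14], [6, 12, 2, 10], [4, 12, 3, 12], [0, 5, 14, 12, 3], [6, 0, 2, 12, 14], [6, 12, 2, 2], [6, 12, 4, 3, 14], [6, 12, 5, 10], [6, 12, 14, 2], [4, 2, 6, 3], [5, 3, 0, 2], [6, 12, 10], [6, 12, 3, 14], [6, 12, 4, 10], [2, 2, 6, 10, 14], [2, 2, 6, 3], [2, 2, 6, 3, 4], [4, 2, 6, 10], [3, 3, 0], [6, 12, 2], [3, 3, 0, 5], [6, 12], [6, 12, 4], [6,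 12, 5], [4, 2, 6], [2, 14, 2, 6], [0, 5, 14, 12], [6, 3, 0, 12], [2, 2, 6, 10, 3], [0, 4, 12, 2, 6], [2, 2, 6], [2, 2, 4, 6], [2, 2, 5, 6], [3, 3, 0, 14, 3], [6, 0, 2, 12], [2, 14, 2, 6, 10], [6, 12, 4, 3], [3, 3, 0, 2], [0, 3, 4, 12, 10], [6, 12, 5, 3], [0, 5, 14, 12, 10], [6, 12, 10, 14], [6, 12, 3], [6, 12, 3, 4], [2, 2, 6, 10], [2, 2, 6, 3, 14], [2, 2, 4, 6, 10], [3, 8, 12, 14, 12], [3, 3, 0, 14], [0, 3, 4, 12], [0, 3, 4, 12, 5], [0, 6, 12, 14], [0, 5, 3, 0], [0, 2, 12, 3, 12], [3, 4, 12, 3], [3, 4, 12, 3, 5], [0, 6, 12, 3, 10], [0, 2, 10, 3, 0], [0, 14, 3, 0], [5, 14, 12, 14], [5, 14, 12, 3], [2, 0, 8, 12, 14], [0, 6, 12, 2, 2], [4, 3, 12, 14], [5, 14, 12, 2], [0, 4, 12, 3, 12], [3, 4, 12, 5, 3], [0, 6, 12, 5, 10], [0, 6, 12, 14, 2], [0, 4, 2, 6,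 3], [0, 5, 3, 0, 2], [0, 6, 12, 10], [0, 6, 12, 3, 14], [0, 6, 12, 4, 10], [2, 2, 8, 12, 14], [0, 3, 3, 0], [0, 6, 12, 2], [0, 3, 3, 0, 5], [2, 0, 10, 12], [2, 0, 10, 12, 4], [0, 4, 2, 6, 10], [0, 6, 12], [0, 6, 12, 4], [0, 6, 12, 5], [0, 6, 3, 0, 12], [2, 2, 8, 12, 3], [4, 12, 2, 6], [0, 4, 2, 6], [5, 14, 12, 4], [5, 14, 12], [2, 0, 8, 12, 5], [2, 0, 8, 12], [2, 0, 8, 12, 4], [4, 3, 12], [4, 3, 12, 4], [4, 3, 12, 5], [12, 2, 2, 12], [0, 3, 3, 0, 2], [3, 4, 12, 10], [0, 6, 12, 5, 3], [5, 14, 12, 10], [0, 6, 12, 10, 14], [0, 6, 12, 3], [0, 6, 12, 3, 4], [2, 2, 8, 12], [3, 4, 12, 4], [3, 4, 12], [3, 4, 12, 5], [2, 0, 10, 12, 14], [4, 3, 12, 4, 10], [3, 4, 12, 3, 10], [0, 2, 12, 3], [6, 14, 3, 0], [12, 4, 2], [3, 0, 12], [3, 0, 12, 4], [3, 0, 12, 5], [12],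 [12, 4], [12, 5], [12, 4, 3, 14], [12, 5, 10], [12, 14, 2], [12, 5, 2], [12, 2, 10], [12, 14, 10], [0, 2, 12, 5], [0, 2, 12], [0, 2, 12, 4], [12, 5, 3], [12, 5, 3, 5], [12, 10, 14], [12, 10, 2], [12, 3, 3, 5], [12, 3, 3], [12, 2, 5, 14], [12, 2, 14], [2, 10, 14, 12], [12, 3], [12, 3, 4], [12, 3, 5], [4, 2, 0, 6], [12, 14, 3], [12, 2, 10, 3], [3, 0, 12, 14], [12, 3, 10, 4], [12, 3, 10], [12, 14], [12, 4, 14], [12, 5, 14], [12, 4, 3], [12, 10, 3], [0, 2, 12, 2], [2, 0, 2, 6], [2, 4, 14, 12], [12, 3, 14, 2], [12, 2, 2, 5], [0, 2, 12, 14], [12, 2, 2], [12, 10, 4], [12, 10, 5], [12, 10], [12, 3, 4, 10], [0, 2, 12, 5, 3], [12, 3, 3, 14], [12, 2, 5], [12, 2], [12, 2, 4], [12, 3, 14], [12, 4, 10], [12, 3, 5, 14], [0, 3, 0, 12], [0, 3, 0, 12, 4], [0, 3, 0, 12,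 5], [2, 12, 3], [2, 12, 3, 4], [0, 12, 4, 2], [0, 12], [0, 12, 4], [0, 12, 5], [4, 3, 14, 12], [0, 12, 5, 10], [0, 12, 14, 2], [2, 12, 5], [2, 12], [2, 12, 4], [0, 12, 5, 2], [0, 12, 2, 10], [0, 12, 14, 10], [0, 12, 5, 3], [0, 12, 5, 3, 5], [0, 12, 10, 14], [2, 12, 5, 2], [0, 12, 2, 14], [2, 12, 14, 10], [2, 12, 10], [2, 12, 10, 4], [0, 12, 3, 3], [0, 12, 3], [0, 12, 3, 4], [0, 12, 3, 5], [0, 3, 0, 12, 14], [0, 12, 3, 10, 4], [0, 12, 3, 10], [2, 12, 3, 14], [0, 12, 14, 3], [0, 12, 2, 10, 3], [0, 12, 14], [0, 12, 4, 14], [0, 12, 5, 14], [0, 12, 4, 3], [0, 12, 10, 3], [2, 12, 2], [2, 12, 5, 14], [2, 12, 14], [0, 12, 2, 2], [2, 12, 10, 2], [0, 2, 4, 14, 12], [2, 12, 3, 3], [0, 12, 10, 4], [0, 12, 10, 5], [0, 12, 10], [0, 12, 2, 5], [0, 12, 2], [0, 12, 2,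 4], [2, 12, 10, 14], [2, 12, 5, 3], [0, 12, 3, 3, 14], [0, 12, 3, 14], [0, 12, 4, 10], [0, 12, 3, 5, 14], [2, 5, 12, 4, 2], [0, 6, 12, 14, 12], [2, 2, 0, 6, 14], [6, 14, 12], [6, 14, 12, 4], [6, 14, 12, 5], [14, 2, 12, 3], [6, 0, 3, 0], [0, 4, 8, 12, 14], [14, 2, 12], [14, 2, 12, 5], [14, 2, 12, 4], [2, 5, 12, 5], [2, 5, 12], [2, 5, 12, 4], [6, 10, 3, 12, 5], [6, 10, 3, 12, 4], [6, 10, 3, 12], [2, 5, 12, 10, 2], [0, 2, 2, 0, 12], [8, 10, 4, 12, 14], [2, 5, 12, 5, 3], [0, 3, 10, 14, 12], [6, 14, 12, 3], [0, 3, 3, 12, 10], [0, 12, 2, 6, 0], [2, 5, 12, 2], [0, 4, 10, 12], [0, 4, 10, 12, 4], [0, 3, 0, 2, 6], [0, 3, 12, 2, 6], [2, 2, 0, 5, 6], [2, 2, 0, 6], [6, 14, 12, 14], [6, 10, 3, 12, 2], [2, 5, 12, 10, 3], [0, 4, 8, 12, 5], [0, 4, 8, 12, 4], [0, 4, 8,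 12], [14, 2, 12, 14], [0, 4, 8, 12, 3], [2, 5, 12, 14, 10], [0, 3, 3, 12, 5], [2, 5, 12, 14], [0, 3, 3, 12], [6, 0, 3, 0, 10], [2, 5, 12, 2, 2], [0, 4, 8, 12, 2], [12, 10, 5, 12], [6, 14, 12, 3, 3], [8, 10, 4, 12], [2, 2, 0, 6, 3], [2, 5, 12, 10], [0, 3, 3, 12, 2], [2, 14, 3, 12], [2, 14, 3, 12, 5], [2, 5, 12, 2, 14], [0, 4, 10, 12, 14], [2, 5, 12, 4, 10], [6, 14, 12, 10], [0, 6, 14, 12], [2, 6, 0, 12], [5, 2, 6, 0], [3, 3, 12, 14, 2], [6, 12, 14, 12], [2, 12, 3, 4, 12], [0, 14, 2, 12, 3], [6, 3, 0, 8], [4, 8, 12, 14], [0, 14, 2, 12], [0, 14, 2, 12, 5], [12, 5, 10, 12], [2, 5, 8, 14, 12], [3, 3, 12, 2, 2], [0, 6, 10, 3, 12], [0, 2, 5, 12, 5], [0, 2, 5, 12], [3, 3, 12, 14], [2, 2, 0, 12, 4], [2, 2, 0, 12], [2, 2, 0, 12, 5], [3, 3, 12, 10], [12, 2, 6, 0],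 [0, 2, 5, 12, 2], [3, 10, 14, 12, 5], [3, 10, 14, 12], [0, 6, 14, 12, 3], [4, 10, 12], [4, 10, 12, 4], [3, 0, 2, 6], [0, 6, 14, 12, 14], [2, 6, 0, 12, 14], [2, 5, 3, 0, 6], [3, 12, 2, 6], [3, 3, 12, 4, 3], [0, 2, 2, 0, 6], [4, 8, 12, 5], [4, 8, 12, 4], [4, 8, 12], [0, 14, 2, 12, 14], [4, 8, 12, 3], [3, 3, 12, 4, 10], [3, 3, 0, 2, 12], [2, 2, 0, 12, 3], [4, 8, 12, 2], [3, 3, 12, 5], [3, 3, 12, 4], [3, 3, 12], [0, 12, 10, 5, 12], [2, 2, 0, 12, 14], [0, 8, 10, 4, 12], [0, 2, 14, 3, 12], [3, 3, 12, 5, 3], [4, 8, 12, 5, 2], [2, 0, 6, 10, 12], [0, 2, 5, 12, 10], [3, 3, 12, 2], [4, 10, 12, 14], [3, 3, 12, 14, 10], [0, 6, 14, 12, 10], [0, 3, 0, 5], [0, 3, 0], [0, 3, 0, 4], [10, 3, 12, 3], [0, 8, 12, 14, 12], [0, 10, 2, 6, 10], [14, 12, 14], [14, 12, 5, 14], [10,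 3, 12, 2], [2, 0, 5, 12], [14, 12, 14, 2], [14, 12, 5, 10], [0, 3, 0, 10], [10, 3, 12, 14], [5, 3, 12, 2], [0, 4, 6, 12, 3], [5, 3, 12, 10], [14, 12, 2, 2], [14, 12, 3], [14, 12, 3, 4], [14, 12, 3, 5], [14, 12, 2, 5], [5, 3, 12, 14], [14, 12, 2], [14, 12, 10, 2], [0, 3, 0, 4, 2], [14, 12, 3, 3], [14, 12, 10, 4], [14, 12, 10, 5], [14, 12, 10], [0, 3, 0, 5, 14], [0, 3, 0, 14], [0, 4, 6, 12], [0, 3, 0, 3, 3], [5, 12, 2, 6], [14, 12, 3, 10], [14, 12], [14, 12, 5], [14, 12, 4], [14, 12, 4, 3], [0, 3, 0, 3, 10], [14, 12, 10, 3], [10, 3, 12, 5], [10, 3, 12], [10, 3, 12, 4], [0, 3, 0, 2, 10], [6, 14, 2, 12], [0, 3, 0, 14, 10], [14, 12, 3, 14], [10, 12, 2, 6], [2, 0, 5, 12, 10], [0, 10, 2, 6], [5, 3, 12], [0, 3, 0, 3], [0, 3, 0, 14, 3], [8, 12, 3, 0], [5, 3, 12,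 2, 2], [14, 12, 5, 3], [0, 3, 0, 2, 4], [0, 3, 0, 2], [3, 0, 5], [3, 0], [3, 0, 4], [0, 14, 12, 14], [2, 5, 3, 0], [2, 6, 12, 14], [0, 10, 3, 12, 3], [8, 12, 14, 12], [10, 2, 6, 10], [3, 0, 10], [2, 14, 3, 0], [3, 0, 10, 4], [0, 2, 0, 5, 12], [0, 14, 12, 14, 2], [5, 2, 6, 10], [4, 6, 12, 3], [0, 5, 3, 12, 10], [0, 14, 12, 2, 2], [3, 0, 4, 10], [0, 5, 3, 12, 14], [0, 14, 12, 2], [0, 14, 12, 3], [0, 14, 12, 3, 4], [0, 14, 12, 3, 5], [0, 14, 12, 10, 2], [3, 0, 4, 2], [0, 14, 12, 3, 3], [0, 14, 12, 10, 4], [0, 14, 12, 10, 5], [0, 14, 12, 10], [3, 0, 5, 14], [3, 0, 14], [4, 6, 12], [0, 14, 12], [5, 2, 6], [2, 6, 12], [3, 0, 3, 3], [0, 5, 12, 2, 6], [3, 0, 10, 2], [3, 0, 10, 14], [0, 10, 3, 12], [2, 4, 2, 6], [2, 6, 12, 3], [3, 0, 3, 10], [0, 14, 12, 10, 3],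 [3, 0, 2, 10], [3, 0, 5, 2], [3, 0, 14, 10], [10, 2, 6], [0, 5, 3, 12], [3, 0, 3], [0, 14, 12, 3, 14], [2, 6, 12, 10], [2, 5, 3, 0, 2], [3, 0, 14, 3], [12, 3, 0, 6], [2, 6, 0, 2, 12], [3, 0, 2, 5], [3, 0, 2, 4], [3, 0, 2], [8, 14], [4, 8, 14], [5, 8, 14], [4, 3, 8], [8, 10, 3], [2, 8, 14, 10], [2, 5, 8, 14], [2, 8, 14], [2, 4, 8, 14], [3, 3, 8], [8, 10, 2], [3, 3, 5, 8], [5, 3, 8], [5, 3, 5, 8], [8, 10, 14], [8, 14, 3], [2, 4, 3, 8], [2, 8, 10, 3], [3, 8, 10, 4], [2, 8, 14, 3], [3, 8, 10], [8, 10, 2, 10], [8, 10, 14, 10], [2, 2, 8, 14], [2, 8, 10], [5, 2, 8], [8, 14, 10], [3, 8], [3, 4, 8], [3, 5, 8], [8], [4, 8], [5, 8], [4, 3, 8, 14], [5, 8, 10], [8, 14, 2], [2, 5, 8], [2, 8], [2, 4, 8], [3, 3, 8, 14], [3, 4, 8, 10], [0, 2, 12, 14, 12], [8, 10, 4],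 [8, 10, 5], [8, 10], [2, 8, 14, 2], [4, 2, 4, 8], [4, 2, 8], [2, 4, 2, 8], [8, 10, 3, 10], [3, 8, 10, 14], [2, 2, 4, 8], [2, 2, 5, 8], [2, 2, 8], [2, 8, 10, 14], [2, 5, 3, 8], [3, 8, 14, 2], [3, 8, 14], [4, 8, 10], [3, 5, 8, 14], [0, 8, 14], [0, 4, 8, 14], [0, 5, 8, 14], [0, 4, 3, 8], [0, 8, 10, 3], [0, 2, 8, 14, 10], [0, 3, 3, 8], [0, 8, 10, 2], [0, 3, 3, 5, 8], [0, 2, 5, 8, 14], [0, 2, 8, 14], [0, 2, 4, 8, 14], [0, 5, 3, 8], [0, 5, 3, 5, 8], [0, 8, 10, 14], [0, 3, 8, 10, 4], [0, 2, 8, 14, 3], [0, 3, 8, 10], [0, 8, 14, 3], [0, 2, 4, 3, 8], [0, 2, 8, 10, 3], [0, 2, 8, 10], [0, 5, 2, 8], [0, 8, 14, 10], [8, 12, 2, 12], [0, 8, 10, 14, 10], [0, 2, 2, 8, 14], [0, 3, 8], [0, 3, 4, 8], [0, 3, 5, 8], [0, 8], [0, 4, 8], [0, 5, 8], [0, 4, 3, 8, 14], [0, 5, 8,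 10], [0, 8, 14, 2], [0, 3, 3, 8, 14], [0, 3, 4, 8, 10], [2, 12, 14, 12], [0, 2, 5, 8], [0, 2, 8], [0, 2, 4, 8], [0, 8, 10, 4], [0, 8, 10, 5], [0, 8, 10], [0, 2, 4, 2, 8], [0, 8, 10, 3, 10], [0, 3, 8, 10, 14], [0, 2, 8, 14, 2], [0, 4, 2, 4, 8], [0, 4, 2, 8], [0, 2, 8, 10, 14], [6, 3, 5, 12], [0, 3, 8, 14, 2], [0, 2, 2, 4, 8], [0, 2, 2, 5, 8], [0, 2, 2, 8], [0, 3, 8, 14], [0, 4, 8, 10], [0, 3, 5, 8, 14], [5, 6, 8], [6, 8], [4, 6, 8], [2, 0, 5, 8, 14], [2, 0, 4, 8, 14], [2, 0, 8, 14], [6, 3, 3, 8, 14], [2, 8, 12, 2, 12], [2, 0, 8, 10, 14, 10], [6, 8, 14, 2], [4, 6, 3, 8, 14], [5, 6, 8, 10], [6, 8, 14, 3], [2, 0, 8, 10, 3], [2, 0, 4, 3, 8], [2, 0, 4, 2, 8], [6, 8, 10, 3, 10], [6, 3, 8, 10, 14], [6, 8, 10], [6, 8, 10, 4], [6, 8, 10, 5], [6, 3, 8], [6, 3, 4,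 8], [6, 3, 5, 8], [0, 2, 14, 12, 3], [2, 0, 2, 8, 14], [6, 8, 10, 14, 10], [2, 0, 8, 10, 14], [0, 3, 5, 8, 12], [3, 8, 14, 2, 6], [5, 6, 8, 14], [6, 8, 14], [4, 6, 8, 14], [2, 0, 5, 8], [2, 0, 4, 8], [2, 0, 8], [6, 3, 3, 8], [6, 8, 10, 2], [4, 2, 0, 2, 8], [0, 2, 14, 12], [4, 6, 3, 8], [6, 8, 10, 3], [2, 0, 8, 14, 2], [4, 2, 0, 8], [4, 2, 0, 4, 8], [4, 6, 3, 3, 8], [2, 0, 8, 14, 3], [6, 3, 8, 10], [6, 8, 10, 14], [5, 6, 3, 8], [0, 2, 10, 3, 12], [6, 3, 8, 14], [4, 6, 8, 10], [2, 2, 12, 14, 12], [2, 0, 2, 4, 8], [2, 0, 2, 8], [2, 0, 2, 5, 8], [2, 0, 8, 10], [5, 2, 0, 8], [6, 8, 14, 10], [5, 6, 0], [6, 0], [4, 6, 0], [2, 10, 3, 12, 3], [6, 0, 3, 4, 10], [2, 0, 8, 12, 14, 12], [2, 14, 12, 10, 4], [2, 14, 12, 10, 5], [2, 14, 12, 10], [2, 14, 12, 14], [2,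 10, 3, 12, 2], [5, 6, 0, 10], [2, 2, 0, 5, 12], [2, 14, 12, 5, 10], [2, 14, 12, 14, 2], [6, 0, 14, 3], [2, 8, 12, 3, 0], [3, 0, 6, 3, 12], [6, 0, 10], [6, 0, 10, 4], [6, 0, 10, 5], [6, 0, 3], [6, 0, 3, 4], [2, 5, 3, 12], [3, 5, 8, 12, 4], [3, 5, 8, 12], [2, 14, 12, 2, 2], [2, 14, 12, 3], [2, 14, 12, 3, 4], [2, 14, 12, 3, 5], [5, 6, 0, 14], [6, 0, 14], [4, 6, 0, 14], [6, 0, 3, 3], [6, 0, 10, 2], [2, 5, 12, 2, 6], [6, 0, 2, 5], [6, 0, 2, 4], [6, 0, 2], [2, 14, 12], [2, 14, 12, 4], [2, 14, 12, 5], [2, 14, 12, 4, 3], [2, 14, 12, 10, 3], [6, 0, 3, 10], [2, 14, 12, 10, 2], [4, 6, 0, 2], [2, 14, 12, 3, 3], [6, 0, 10, 14], [5, 6, 0, 3], [2, 10, 3, 12], [2, 14, 12, 2], [4, 6, 0, 10], [2, 5, 3, 12, 14], [6, 0, 2, 10], [5, 6, 0, 2], [6, 0, 14, 10], [2, 14, 12, 3,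 14], [6, 0, 2, 2], [5, 6, 0, 10, 2], [4, 3, 0, 8, 14], [8, 14, 2, 6], [5, 6, 8, 12], [2, 5, 6, 8], [2, 4, 6, 8], [2, 6, 8], [0, 3, 10, 12, 3], [0, 8, 12, 2, 6], [8, 12, 4, 14, 12], [0, 2, 4, 12, 4], [0, 2, 4, 12, 5], [0, 2, 4, 12], [8, 10, 2, 6, 12], [0, 8, 10, 14, 12], [2, 2, 0, 8, 14], [0, 2, 4, 12, 3], [2, 5, 6, 3, 8], [4, 6, 3, 3, 12], [0, 3, 10, 12, 14], [3, 12, 5, 3, 0], [0, 2, 4, 12, 5, 2], [6, 12, 4, 10, 12], [0, 2, 4, 12, 2], [2, 6, 3, 8, 10], [0, 5, 2, 0, 12], [4, 12, 5, 3, 12], [2, 5, 6, 8, 10], [0, 3, 8, 12, 4], [0, 3, 8, 12, 5], [0, 3, 8, 12], [4, 3, 0, 8], [2, 6, 8, 14, 10], [8, 10, 3, 0], [2, 5, 6, 8, 14], [2, 4, 6, 8, 14], [2, 6, 8, 14], [4, 12, 14, 12, 4], [4, 12, 14, 12], [4, 12, 14, 12, 5], [2, 6, 3, 8], [5, 6, 10, 12], [0, 2, 4, 12,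 14], [0, 3, 8, 12, 2], [2, 2, 0, 5, 8], [2, 2, 0, 8], [2, 6, 8, 10], [0, 3, 8, 12, 3], [10, 12, 14, 12], [0, 3, 10, 12], [0, 3, 10, 12, 4], [0, 3, 10, 12, 5], [12, 2, 4, 12], [12, 2, 4, 12, 5], [0, 4, 12, 3, 0], [2, 0, 2, 14, 12], [2, 4, 6, 3, 8], [2, 6, 8, 10, 3], [2, 4, 2, 0, 8], [8, 12, 3, 12], [0, 3, 8, 12, 14], [4, 3, 0, 6, 14], [14, 2, 6, 0], [5, 6, 0, 12], [3, 10, 12, 3], [8, 12, 2, 6], [3, 8, 12, 4, 3], [0, 2, 5, 6, 8], [2, 4, 12, 10], [0, 2, 6, 8], [2, 4, 12, 4], [2, 4, 12, 5], [2, 4, 12], [2, 4, 12, 3], [2, 4, 12, 3, 5], [2, 4, 12, 3, 4], [3, 8, 12, 2, 14], [8, 10, 14, 12], [2, 4, 12, 2, 2], [3, 10, 12, 14], [2, 4, 12, 14, 10], [2, 4, 12, 5, 2], [2, 4, 12, 2, 5], [2, 4, 12, 2], [2, 4, 12, 2, 4], [3, 8, 12, 4], [3, 8, 12, 5], [3, 8, 12], [5,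 2, 0, 12], [2, 4, 12, 5, 10], [2, 4, 12, 14, 2], [4, 3, 0, 6], [2, 6, 0, 14, 12], [10, 3, 0, 6], [3, 8, 12, 5, 10], [0, 4, 12, 14, 12], [2, 4, 12, 3, 10], [2, 4, 12, 5, 3], [2, 4, 12, 10, 14], [0, 2, 6, 8, 14], [2, 6, 3, 0], [0, 5, 6, 10, 12], [2, 4, 12, 14], [0, 2, 6, 8, 10], [3, 8, 12, 3], [0, 10, 12, 14, 12], [3, 8, 12, 2], [2, 0, 4, 2, 12], [0, 2, 2, 0, 8], [3, 10, 12], [3, 10, 12, 4], [3, 10, 12, 5], [0, 12, 2, 4, 12], [2, 4, 12, 2, 14], [4, 12, 3, 0], [2, 4, 12, 10, 2], [0, 8, 12, 3, 12], [3, 8, 12, 14], [2, 4, 12, 4, 3], [2, 4, 12, 10, 3], [5, 12, 4, 3, 12], [2, 4, 6, 0], [2, 5, 6, 0], [2, 6, 0], [3, 0, 4, 12], [3, 0, 4, 12, 5], [3, 0, 4, 12, 4], [2, 6, 0, 2, 10], [0, 2, 6, 14, 12], [5, 8, 12, 14], [5, 10, 12], [2, 6, 0, 3], [5, 10, 12, 5], [0,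 10, 5, 12], [0, 10, 5, 12, 5], [0, 10, 5, 12, 4], [0, 6, 10, 14, 12], [8, 14, 3, 12], [8, 14, 3, 12, 5], [5, 10, 12, 2], [2, 6, 0, 10], [2, 6, 0, 10, 5], [12, 3, 3, 12], [3, 10, 4, 12, 2], [0, 5, 2, 8, 12], [5, 8, 12, 14, 10], [0, 2, 2, 5, 12], [0, 6, 3, 12, 14], [5, 10, 12, 3], [5, 10, 12, 3, 4], [5, 8, 12, 4, 3], [2, 4, 6, 0, 14], [2, 5, 6, 0, 14], [2, 6, 0, 14], [0, 6, 12, 2, 6], [5, 3, 0, 8, 12], [0, 3, 3, 0, 6], [5, 8, 12, 4], [5, 8, 12, 5], [5, 8, 12], [5, 10, 12, 14], [2, 2, 14, 12, 2], [2, 4, 6, 0, 10], [0, 6, 3, 12, 10], [5, 8, 12, 3], [3, 12, 3, 14, 12], [5, 8, 12, 2], [2, 6, 0, 2], [0, 6, 3, 12, 2], [2, 5, 6, 0, 3], [2, 6, 0, 10, 14], [3, 10, 4, 12], [2, 2, 14, 12, 5], [0, 12, 2, 5, 12], [2, 2, 14, 12], [0, 6, 3, 12, 5], [0, 6, 3, 12, 4], [0,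 6, 3, 12], [12, 4, 10, 12], [2, 6, 0, 3, 10], [0, 3, 8, 14, 12], [0, 3, 0, 4, 12], [6, 10, 14, 12, 3], [3, 3, 0, 6, 14], [4, 6, 14, 12], [0, 2, 5, 6, 0], [0, 2, 6, 0], [2, 6, 14, 12, 4], [2, 6, 14, 12], [0, 5, 8, 12, 14], [0, 5, 10, 12], [0, 2, 6, 0, 3], [12, 14, 2, 12], [10, 5, 12], [10, 5, 12, 5], [10, 5, 12, 4], [2, 14, 2, 12], [0, 2, 6, 0, 10], [2, 14, 2, 12, 4], [6, 10, 14, 12], [0, 8, 14, 3, 12], [2, 6, 14, 12, 3], [2, 2, 5, 12, 5], [2, 2, 5, 12], [6, 3, 12, 14], [0, 12, 3, 3, 12], [5, 2, 8, 12, 5], [5, 2, 8, 12], [0, 5, 10, 12, 3], [5, 2, 8, 12, 2], [2, 6, 10, 3, 12], [6, 12, 2, 6], [3, 3, 0, 5, 6], [3, 3, 0, 6], [3, 12, 2, 6, 12], [3, 0, 12, 14, 12], [0, 2, 6, 0, 14], [0, 5, 8, 12, 4], [0, 5, 8, 12, 5], [0, 5, 8, 12], [0, 5, 10, 12, 14], [0, 2,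 2, 14, 12, 2], [2, 0, 4, 8, 12], [6, 3, 12, 10], [0, 5, 8, 12, 3], [2, 2, 5, 12, 2], [2, 14, 2, 12, 14], [10, 5, 12, 2, 5], [10, 5, 12, 2], [0, 5, 8, 12, 2], [0, 2, 6, 0, 2], [6, 3, 12, 2], [6, 3, 12, 5], [6, 3, 12, 4], [6, 3, 12], [12, 2, 5, 12, 4], [12, 2, 5, 12], [0, 2, 2, 14, 12], [0, 12, 4, 10, 12], [3, 8, 14, 12, 4], [3, 8, 14, 12], [6, 8, 12], [6, 8, 12, 4], [6, 8, 12, 5], [4, 2, 6, 8], [12, 14, 3, 0], [0, 5, 8, 14, 12], [14, 12, 14, 12], [5, 12, 14, 12, 14], [6, 3, 0, 8, 12], [2, 2, 6, 8], [2, 2, 4, 6, 8], [2, 2, 5, 6, 8], [0, 2, 0, 12], [0, 2, 0, 12, 4], [0, 2, 0, 12, 5], [6, 10, 12, 3], [0, 2, 0, 12, 2], [6, 8, 12, 4, 3], [0, 4, 2, 4, 12], [6, 10, 12, 14], [12, 5, 3, 0], [0, 2, 2, 12, 5], [0, 2, 2, 12], [6, 8, 12, 3], [2, 0, 2, 4, 12], [3, 12,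 14, 12], [0, 12, 3, 4, 12], [3, 3, 0, 8, 14], [0, 3, 4, 8, 12], [0, 2, 0, 12, 14, 10], [6, 8, 12, 14], [5, 3, 0, 8], [2, 8, 12, 3, 12], [0, 2, 0, 12, 3], [8, 14, 3, 0], [12, 4, 2, 6], [5, 12, 14, 12, 4], [5, 12, 14, 12], [3, 12, 14, 12, 10], [2, 2, 6, 8, 14], [6, 0, 10, 2, 12], [3, 12, 14, 12, 3], [0, 2, 0, 12, 14], [12, 2, 2, 6], [12, 2, 2, 5, 6], [3, 0, 14, 10, 12], [2, 4, 12, 14, 12], [0, 2, 2, 12, 14, 10], [6, 10, 12, 5], [6, 10, 12], [6, 10, 12, 4], [6, 8, 12, 4, 10], [0, 2, 2, 12, 14], [6, 8, 12, 3, 14], [4, 10, 12, 14, 12], [12, 3, 3, 0], [6, 10, 12, 2], [3, 3, 0, 8], [6, 8, 12, 2], [3, 3, 0, 5, 8], [6, 0, 12], [6, 0, 12, 4], [6, 0, 12, 5], [2, 2, 12, 3], [2, 2, 12, 3, 4], [2, 0, 12, 4, 2], [0, 4, 2, 6, 8], [0, 12, 14, 3, 0], [5, 8, 14, 12], [2,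 0, 12], [2, 0, 12, 4], [2, 0, 12, 5], [2, 2, 12, 10], [2, 2, 12, 10, 4], [2, 0, 12, 3, 3], [0, 6, 10, 12, 3], [2, 0, 12, 2], [2, 0, 12, 2, 4], [4, 2, 4, 12], [0, 6, 10, 12, 14], [0, 12, 5, 3, 0], [2, 2, 12, 5], [2, 2, 12], [2, 2, 12, 4], [2, 0, 12, 5, 2], [3, 4, 8, 12], [2, 0, 12, 14, 10], [2, 0, 12, 5, 3], [0, 3, 12, 14, 12], [12, 3, 4, 12], [6, 0, 12, 14], [5, 3, 0, 6], [2, 0, 12, 3, 10], [2, 2, 12, 3, 14], [0, 5, 12, 14, 12], [3, 4, 8, 12, 3], [2, 0, 12, 3], [0, 8, 14, 3, 0], [0, 12, 4, 2, 6], [2, 0, 12, 14], [12, 4, 3, 12], [2, 0, 12, 5, 14], [2, 2, 12, 10, 14], [2, 2, 12, 5, 3], [6, 0, 12, 14, 10], [2, 2, 12, 5, 2], [2, 0, 12, 2, 14], [2, 2, 12, 14, 10], [0, 6, 10, 12, 5], [0, 6, 10, 12], [2, 2, 12, 2], [2, 2, 12, 5, 14], [2, 2, 12, 14], [2, 0, 12,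 2, 2], [0, 3, 3, 0, 8], [6, 0, 12, 2], [2, 2, 12, 3, 3], [2, 0, 12, 10, 4], [0, 12, 3, 3, 0], [2, 0, 12, 10], [0, 5, 6, 14, 12], [4, 2, 6, 0], [8, 12, 14, 3], [8, 12, 3, 10], [3, 0, 8, 12, 14], [8, 12, 3, 10, 4], [8, 12, 4, 14], [8, 12, 5, 14], [8, 12, 14], [10, 12, 3], [10, 12, 3, 4], [8, 12, 4, 3], [5, 12, 2, 6, 0], [10, 12, 2, 2], [0, 10, 2, 12, 14], [8, 12, 2, 2], [8, 12, 2, 2, 5], [0, 2, 8, 12, 14], [10, 12], [10, 12, 4], [10, 12, 5], [10, 12, 2, 14], [2, 2, 4, 12], [2, 2, 4, 12, 5], [8, 12, 2], [8, 12, 2, 4], [8, 12, 2, 5], [0, 3, 5, 14, 12], [8, 12, 3, 14], [8, 12, 4, 10], [8, 12, 4, 2], [0, 2, 8, 12, 3], [10, 12, 14, 3], [3, 0, 8, 12, 5], [3, 0, 8, 12], [3, 0, 8, 12, 4], [8, 12, 4], [8, 12, 5], [8, 12], [8, 12, 5, 10], [8, 12, 14, 2], [8, 12,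 4, 3, 14], [8, 12, 14, 10], [8, 12, 5, 2], [0, 10, 2, 12], [10, 12, 5, 2], [10, 12, 14, 10], [0, 2, 8, 12], [10, 12, 14], [8, 12, 5, 3], [10, 12, 5, 14], [10, 12, 2], [10, 12, 2, 4], [8, 12, 3, 3], [8, 12, 2, 14], [2, 8, 10, 14, 12], [8, 12, 2, 5, 14], [8, 12, 3, 5], [8, 12, 3], [8, 12, 3, 4], [0, 8, 12, 3, 10], [3, 0, 6, 12, 14], [2, 4, 2, 6, 0], [5, 6, 14, 12], [0, 4, 2, 6, 0], [0, 8, 12, 14, 3], [0, 8, 12, 4, 14], [0, 8, 12, 5, 14], [0, 8, 12, 14], [0, 10, 12, 3], [2, 8, 12, 2], [0, 8, 12, 4, 3], [0, 8, 12, 2, 2], [2, 8, 12, 5, 14], [2, 8, 12, 14], [2, 8, 12, 3, 3], [2, 10, 12, 2], [10, 2, 12, 14], [0, 10, 12], [0, 10, 12, 4], [0, 10, 12, 5], [0, 8, 12, 2], [0, 8, 12, 2, 4], [0, 8, 12, 2, 5], [2, 10, 12, 14], [0, 2, 2, 4, 12], [2, 10, 12, 5, 14], [3,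 5, 14, 12], [0, 8, 12, 3, 14], [0, 8, 12, 4, 10], [2, 10, 12, 14, 3], [3, 0, 6, 12], [3, 0, 6, 12, 4], [0, 8, 12, 4, 2], [2, 8, 12, 3], [0, 10, 12, 14, 3], [0, 8, 12, 4], [0, 8, 12, 5], [0, 8, 12], [0, 8, 12, 5, 10], [0, 8, 12, 14, 2], [3, 5, 14, 12, 10], [2, 8, 12, 4], [2, 8, 12, 5], [2, 8, 12], [10, 2, 12, 5], [10, 2, 12, 4], [10, 2, 12], [0, 10, 12, 14], [0, 8, 12, 5, 3], [0, 10, 12, 5, 14], [6, 3, 4, 12], [2, 8, 12, 14, 10], [2, 8, 12, 5, 2], [2, 10, 12], [2, 10, 12, 4], [2, 10, 12, 5], [0, 8, 12, 3, 5], [0, 8, 12, 3], [10, 2, 12, 2], [2, 2, 6, 0], [2, 2, 4, 6, 0], [2, 2, 5, 6, 0], [3, 0, 5, 12], [0, 4, 12, 4, 2], [3, 0, 5, 12, 4], [0, 4, 12], [0, 4, 12, 5], [0, 4, 12, 4], [0, 4, 12, 3], [0, 4, 12, 3, 4], [0, 4, 12, 3, 5], [2, 5, 8, 12, 14], [0, 3,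 3, 8, 12], [12, 5, 2, 12], [0, 4, 12, 2, 4], [0, 4, 12, 2, 5], [0, 4, 12, 2], [10, 4, 12], [10, 4, 12, 4], [10, 4, 12, 5], [4, 2, 12, 5], [4, 2, 12, 4], [4, 2, 12], [0, 4, 12, 5, 2], [0, 4, 12, 2, 10], [0, 4, 12, 14, 10], [0, 4, 12, 5, 3], [6, 14, 10, 12], [0, 4, 12, 10, 14], [2, 2, 6, 0, 14], [6, 12, 2, 6, 12], [0, 4, 12, 3, 10], [0, 5, 2, 0, 6], [6, 8, 14, 12], [0, 2, 0, 6, 12], [0, 4, 12, 14], [0, 4, 12, 5, 14], [0, 6, 3, 0], [0, 4, 12, 3, 14], [0, 4, 12, 4, 10], [8, 14, 2, 12], [2, 5, 8, 12], [2, 5, 8, 12, 4], [0, 4, 12, 3, 3], [10, 4, 12, 2], [2, 12, 3, 3, 12], [0, 4, 12, 2, 14], [10, 4, 12, 14], [4, 2, 12, 2], [0, 4, 12, 10, 3], [4, 2, 12, 5, 14], [0, 4, 12, 2, 2], [4, 2, 12, 14], [2, 5, 8, 12, 2], [0, 2, 4, 3, 12], [0, 6, 10, 2, 6], [12, 3, 14,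 12], [0, 4, 12, 10, 5], [0, 4, 12, 10], [0, 3, 0, 5, 12], [4, 12, 4, 2], [2, 0, 6, 12, 14], [4, 3, 0, 12], [3, 8, 12, 2, 6], [4, 3, 0, 12, 5], [4, 12], [4, 12, 5], [4, 12, 4], [4, 12, 3], [4, 12, 3, 4], [4, 12, 3, 5], [4, 12, 2, 4], [4, 12, 2, 5], [4, 12, 2], [2, 0, 6, 12, 3], [3, 3, 8, 12], [0, 12, 5, 2, 12], [0, 10, 4, 12], [4, 12, 14, 2], [4, 12, 5, 10], [4, 12, 5, 2], [4, 12, 2, 10], [4, 12, 14, 10], [0, 4, 2, 12, 5], [0, 4, 2, 12, 4], [0, 4, 2, 12], [4, 12, 5, 3], [0, 6, 14, 10, 12], [4, 12, 10, 14], [5, 2, 0, 6], [6, 0, 14, 12], [2, 0, 6, 12], [4, 3, 0, 12, 14], [4, 12, 3, 10, 4], [4, 12, 3, 10], [4, 12, 14], [4, 12, 5, 14], [6, 3, 0], [4, 12, 3, 14], [4, 12, 4, 10], [0, 8, 14, 2, 12], [2, 5, 14, 12], [2, 0, 4, 2, 6], [4, 12, 2, 14], [4, 12, 10,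 2], [3, 3, 8, 12, 14], [4, 12, 3, 3], [4, 12, 4, 3], [0, 4, 2, 12, 2], [4, 12, 10, 3], [2, 4, 3, 12, 5], [2, 4, 3, 12], [6, 10, 2, 6], [4, 12, 2, 2, 5], [4, 12, 2, 2], [0, 4, 2, 12, 14], [4, 12, 10, 4], [4, 12, 10, 5], [4, 12, 10], [4, 6, 0, 12], [3, 0, 5, 6, 14], [3, 0, 6, 14], [2, 4, 6, 14, 12], [2, 0, 2, 6, 0], [0, 12, 14, 12, 14], [8, 14, 12, 5], [8, 14, 12, 4], [8, 14, 12], [0, 6, 3, 3, 12], [14, 10, 12, 3], [4, 12, 3, 4, 12], [3, 0, 5, 6, 3], [3, 0, 6, 10, 14], [8, 10, 3, 12], [2, 6, 3, 12, 5], [2, 6, 3, 12], [2, 6, 3, 12, 4], [4, 2, 0, 12], [0, 12, 5, 3, 12], [12, 10, 2, 6], [5, 3, 8, 12], [3, 0, 6, 3], [0, 8, 10, 2, 6], [12, 3, 0, 4], [12, 3, 0], [12, 3, 0, 5], [3, 0, 2, 0], [3, 0, 2, 0, 5], [0, 4, 6, 10, 12], [3, 0, 4, 6], [3, 0, 5, 6], [3, 0,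 6], [12, 2, 6, 12], [12, 5, 2, 6], [0, 12, 14, 12], [3, 0, 5, 6, 10], [8, 10, 3, 12, 2], [8, 14, 12, 14], [8, 14, 12, 14, 2], [8, 14, 12, 5, 10], [2, 0, 5, 8, 12], [3, 0, 6, 10, 4], [3, 0, 6, 10], [3, 0, 6, 10, 5], [3, 3, 5, 12, 5], [0, 12, 14, 12, 10], [3, 3, 5, 12], [0, 12, 14, 12, 2], [8, 14, 12, 3], [4, 12, 4, 3, 12], [0, 12, 14, 12, 3], [8, 14, 12, 2], [3, 0, 4, 6, 10], [6, 10, 4, 12], [12, 3, 0, 14], [6, 10, 4, 12, 5], [14, 10, 12], [14, 10, 12, 4], [14, 10, 12, 5], [4, 6, 8, 12], [3, 0, 5, 8, 14], [3, 0, 8, 14], [5, 2, 6, 8], [2, 6, 8, 12], [0, 8, 14, 12], [3, 0, 8, 10, 2], [2, 6, 10, 12, 2], [12, 14, 12, 14], [2, 4, 2, 6, 8], [3, 0, 8, 10, 14], [0, 8, 10, 3, 12], [6, 3, 3, 12], [0, 14, 10, 12, 3], [2, 6, 8, 12, 3], [3, 0, 8, 14, 10], [0, 2, 6,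 3, 12], [2, 14, 12, 14, 12], [0, 5, 3, 8, 12], [3, 0, 3, 8], [8, 10, 2, 6], [0, 4, 2, 0, 12], [12, 5, 3, 12], [2, 6, 10, 12], [0, 12, 3, 0, 4], [0, 12, 3, 0], [0, 12, 3, 0, 5], [3, 0, 2, 8], [3, 0, 2, 5, 8], [4, 6, 10, 12], [3, 0, 4, 8], [3, 0, 5, 8], [3, 0, 8], [2, 5, 3, 0, 8], [2, 6, 8, 12, 14], [0, 8, 14, 12, 14], [12, 14, 12, 4], [12, 14, 12, 5], [12, 14, 12], [3, 0, 8, 10, 4], [3, 0, 8, 10], [2, 8, 14, 3, 0], [5, 10, 12, 14, 12], [4, 12, 3, 3, 0], [4, 6, 10, 12, 2], [2, 5, 12, 14, 12], [12, 14, 12, 10], [0, 3, 3, 5, 12], [12, 14, 12, 3], [0, 8, 14, 12, 2], [3, 0, 4, 8, 10], [12, 14, 12, 2], [0, 8, 14, 12, 3], [2, 6, 10, 12, 14], [0, 6, 10, 4, 12], [0, 12, 3, 0, 14], [14, 12, 3, 3, 0], [0, 14, 10, 12], [0, 14, 10, 12, 4], [0, 14, 10, 12, 5]]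
noncomputable def Gx : List (List ℕ) := [[], [2], [3], [6], [2, 0], [2, 2], [2, 5], [3, 0], [3, 12], [2, 0, 5]]
noncomputable def Ga : List (List ℕ) := [[], [2], [3], [4], [5], [6], [12], [14], [2, 0], [2, 2], [2, 4], [2, 5], [2, 6], [2, 10], [2, 12], [3, 0], [3, 4], [3, 10], [3, 12], [4, 2], [4, 6], [4, 12], [5, 2], [5, 6], [5, 12], [6, 3], [6, 10], [6, 14], [12, 2], [12, 3], [12, 4], [12, 5], [12, 14], [14, 3], [14, 12], [2, 0, 2], [2, 0, 4], [2, 0, 5], [2, 0, 6], [2, 0, 10], [2, 0, 12], [2, 0, 14], [2, 2, 0], [2, 2, 12], [2, 4, 12], [2, 5, 6], [2, 5, 12], [2, 6, 3], [2, 6, 10], [2, 6, 12], [2, 12, 2], [2, 12, 3], [2, 12, 4], [2, 12, 5], [3, 0, 2], [3, 0, 4], [3, 0, 10], [3, 10, 12], [3, 12, 3], [3, 12, 4], [3, 12, 5], [3, 12, 14], [4, 2, 12], [4, 6,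 3], [4, 6, 10], [4, 12, 3], [4, 12, 4], [4, 12, 5], [4, 12, 14], [5, 2, 0], [5, 2, 6], [5, 2, 12], [5, 6, 3], [5, 6, 10], [5, 12, 2], [5, 12, 3], [5, 12, 4], [5, 12, 5], [5, 12, 14], [6, 3, 0], [6, 3, 3], [6, 3, 4], [6, 3, 10], [6, 3, 12], [6, 3, 14], [6, 10, 2], [6, 10, 3], [6, 10, 4], [6, 10, 5], [6, 10, 14], [6, 14, 2], [6, 14, 12], [12, 2, 4], [12, 2, 5], [12, 2, 6], [12, 4, 2], [12, 14, 3], [14, 3, 0], [2, 0, 2, 0], [2, 0, 2, 14], [2, 0, 4, 2], [2, 0, 4, 6], [2, 0, 5, 6], [2, 0, 5, 12], [2, 0, 6, 10], [2, 0, 6, 12], [2, 0, 12, 5], [2, 2, 0, 2], [2, 5, 6, 10], [2, 5, 12, 2], [2, 5, 12, 4], [2, 5, 12, 5], [2, 6, 12, 3], [2, 12, 2, 12], [3, 12, 14, 2], [4, 2, 12, 4], [4, 6, 3, 0], [4, 6, 3, 3], [4, 12, 4, 2], [5, 2, 12, 4]]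
noncomputable def G1 : List (List ℕ) := [[], [10], [12], [3, 14], [10, 5], [10, 12], [12, 4], [12, 5], [3, 14, 12], [10, 5, 12], [10, 12, 4], [10, 12, 5], [12, 3, 14], [12, 4, 10], [12, 5, 10], [12, 14, 2]]
noncomputable def G2 : List (List ℕ) := [[], [10], [12], [3, 14], [10, 5], [10, 12], [12, 4], [12, 5], [3, 14, 12], [10, 5, 12], [10, 12, 4], [10, 12, 5], [12, 3, 14], [12, 4, 10], [12, 5, 10], [12, 14, 2]]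
noncomputable def G3 : List (List ℕ) := [[], [2], [3], [10], [12], [14], [2, 2], [2, 4], [2, 5], [2, 6], [2, 12], [2, 14], [3, 0], [3, 3], [3, 4], [3, 5], [3, 12], [3, 14], [10, 2], [10, 5], [10, 12], [12, 2], [12, 3], [12, 4], [12, 5], [12, 14], [14, 3], [14, 12], [2, 2, 0], [2, 2, 12], [2, 2, 14], [2, 4, 2], [2, 4, 3], [2, 4, 12], [2, 5, 6], [2, 5, 12], [2, 6, 3], [2, 6, 10], [2, 6, 14], [2, 12, 2], [2, 12, 4], [2, 12, 5], [2, 12, 14], [3, 0, 2], [3, 0, 3], [3, 0, 5], [3, 0, 12], [3, 3, 0], [3, 3, 12], [3, 4, 10], [3, 4, 12], [3, 12, 5], [3, 12, 14], [3, 14, 12], [10, 2, 12], [10, 5, 12], [10, 12, 3], [10, 12, 14], [12, 2, 2], [12, 2, 6], [12, 3, 4], [12, 3, 10], [12, 3, 12], [12, 3, 14], [12, 4, 2], [12, 4, 3], [12, 4, 10], [12, 5, 3], [12, 5, 10],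 [12, 14, 2], [14, 3, 0], [14, 3, 12], [14, 12, 3], [2, 2, 0, 2], [2, 4, 2, 6], [2, 4, 12, 3], [2, 5, 6, 3], [2, 5, 12, 4], [3, 0, 12, 14], [3, 12, 5, 10]]
noncomputable def Gb : List (List ℕ) := [[], [4], [5], [6], [12], [4, 6], [4, 12], [5, 6], [5, 12], [6, 10], [12, 4], [12, 5], [2, 6, 3], [3, 0, 2], [4, 6, 10], [4, 12, 4], [4, 12, 5], [5, 6, 10], [5, 12, 4], [5, 12, 5], [6, 3, 14], [6, 10, 4], [6, 10, 5], [6, 14, 2]]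
noncomputable def EA : List (List ℕ) := [[], [8], [0], [8, 0], [10], [8, 10], [0, 10], [8, 0, 10], [4, 10, 5], [8, 4, 10, 5], [0, 4, 10, 5], [8, 0, 4, 10, 5], [10, 4, 10, 5], [8, 10, 4, 10, 5], [0, 10, 4, 10, 5], [8, 0, 10, 4, 10, 5]]
noncomputable def WY : List (List ℕ) := [[], [7], [6], [0], [0, 6], [0, 7], [2], [2, 6], [2, 7], [4, 7], [4, 6], [4], [2, 0], [2, 0, 7], [2, 0, 6], [6, 0], [7, 4], [0, 4], [0, 2, 6], [0, 2, 7], [0, 2], [2, 4, 7], [2, 4, 6], [2, 4], [7, 8], [6, 8], [8], [7, 8, 0], [8, 0, 4], [6, 8, 4], [8, 2], [6, 8, 2], [7, 8, 2], [6, 8, 0], [8, 4], [8, 4, 6], [8, 0], [8, 0, 7], [7, 8, 4], [8, 2, 0], [7, 8, 0, 2], [6, 8, 2, 4], [6, 8, 2, 0], [7, 8, 2, 4], [8, 0, 2], [7, 8, 2, 0], [6, 8, 0, 2], [8, 2, 4], [0, 7, 8], [0, 8], [0, 6, 8], [0,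 7, 8, 0], [0, 6, 8, 4], [0, 8, 0, 4], [0, 8, 0], [0, 8, 0, 7], [0, 7, 8, 4], [0, 6, 8, 0], [0, 8, 4], [0, 8, 4, 6], [0, 8, 2], [0, 6, 8, 2], [0, 7, 8, 2], [0, 8, 2, 0], [0, 7, 8, 0, 2], [0, 6, 8, 2, 4], [0, 6, 8, 2, 0], [0, 7, 8, 2, 4], [0, 8, 0, 2], [0, 7, 8, 2, 0], [0, 6, 8, 0, 2], [0, 8, 2, 4], [2, 7, 8], [2, 8], [2, 6, 8], [2, 6, 8, 2], [2, 8, 2], [2, 7, 8, 2], [2, 7, 8, 0], [2, 6, 8, 4], [2, 8, 0, 4], [2, 8, 0], [2, 8, 0, 7], [2, 7, 8, 4], [2, 6, 8, 0], [2, 8, 4], [2, 8, 4, 6], [2, 6, 8, 2, 0], [2, 7, 8, 2, 4], [2, 8, 0, 2], [2, 8, 2, 0], [2, 7, 8, 0, 2], [2, 6, 8, 2, 4], [2, 7, 8, 2, 0], [2, 8, 2, 4], [2, 6, 8, 0, 2], [4, 6, 8], [4, 8], [4, 7, 8], [4, 6, 8, 0], [4, 8, 4, 6], [4, 8, 4], [4, 8, 0], [4, 7, 8, 4], [0, 8, 0, 8], [4, 7, 8, 0], [4, 8,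 0, 4], [4, 6, 8, 4], [4, 7, 8, 2], [4, 8, 2], [4, 6, 8, 2], [4, 7, 8, 2, 0], [4, 6, 8, 0, 2], [4, 8, 2, 4], [4, 8, 2, 0], [4, 6, 8, 2, 4], [4, 7, 8, 0, 2], [0, 8, 0, 8, 2], [4, 8, 0, 2], [4, 7, 8, 2, 4], [2, 0, 7, 8], [2, 0, 6, 8], [2, 0, 8], [2, 0, 7, 8, 0], [2, 0, 8, 0, 4], [2, 0, 6, 8, 4], [2, 0, 8, 2], [2, 0, 6, 8, 2], [2, 0, 7, 8, 2], [2, 0, 6, 8, 0], [2, 0, 8, 4], [2, 0, 8, 4, 6], [2, 0, 8, 0], [2, 0, 8, 0, 7], [2, 0, 7, 8, 4], [2, 0, 8, 2, 0], [2, 0, 7, 8, 0, 2], [2, 0, 6, 8, 2, 4], [2, 0, 6, 8, 2, 0], [2, 0, 7, 8, 2, 4], [2, 0, 8, 0, 2], [2, 0, 7, 8, 2, 0], [2, 0, 6, 8, 0, 2], [2, 0, 8, 2, 4], [0, 4, 8], [6, 0, 8], [7, 4, 8], [0, 4, 8, 0], [7, 4, 8, 4], [8, 0, 8], [6, 0, 8, 0], [0, 4, 8, 4, 6], [0, 4, 8, 4], [7, 4, 8, 0], [6, 0, 8, 4], [0, 4,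 8, 0, 4], [6, 0, 8, 2], [0, 4, 8, 2], [7, 4, 8, 2], [8, 0, 8, 2], [7, 4, 8, 2, 4], [0, 4, 8, 0, 2], [0, 4, 8, 2, 0], [7, 4, 8, 0, 2], [6, 0, 8, 2, 4], [7, 4, 8, 2, 0], [0, 4, 8, 2, 4], [6, 0, 8, 0, 2], [0, 2, 8], [0, 2, 6, 8], [0, 2, 7, 8], [0, 2, 6, 8, 2], [0, 2, 8, 2], [0, 2, 7, 8, 2], [0, 2, 8, 0], [0, 2, 7, 8, 4], [2, 8, 0, 8], [0, 2, 6, 8, 0], [0, 2, 8, 4, 6], [0, 2, 8, 4], [0, 2, 7, 8, 0], [0, 2, 6, 8, 4], [0, 2, 8, 0, 4], [2, 8, 0, 8, 2], [0, 2, 7, 8, 2, 4], [0, 2, 8, 0, 2], [0, 2, 8, 2, 0], [0, 2, 7, 8, 0, 2], [0, 2, 6, 8, 2, 4], [0, 2, 7, 8, 2, 0], [0, 2, 8, 2, 4], [0, 2, 6, 8, 0, 2], [2, 4, 6, 8], [2, 4, 8], [2, 4, 7, 8], [2, 4, 6, 8, 0], [2, 4, 8, 4, 6], [2, 4, 8, 4], [2, 4, 7, 8, 2], [2, 4, 6, 8, 2], [2, 4, 8, 2], [2, 4, 8, 0], [2, 4, 7, 8,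 4], [2, 0, 8, 0, 8], [2, 4, 7, 8, 0], [2, 4, 8, 0, 4], [2, 4, 6, 8, 4], [2, 4, 7, 8, 2, 0], [2, 4, 8, 2, 4], [2, 4, 6, 8, 0, 2], [2, 0, 8, 0, 8, 2], [2, 4, 8, 0, 2], [2, 4, 7, 8, 2, 4], [2, 4, 8, 2, 0], [2, 4, 6, 8, 2, 4], [2, 4, 7, 8, 0, 2], [7, 8, 0, 2, 8], [6, 8, 2, 4, 8], [8, 2, 0, 8], [8, 2, 0, 8, 2], [0, 6, 8, 2, 4, 8], [0, 8, 2, 0, 8], [2, 8, 0, 2, 8], [2, 6, 8, 2, 0, 8], [2, 7, 8, 2, 4, 8], [0, 2, 8, 0, 2, 8], [2, 8, 0, 2, 8, 2], [0, 2, 7, 8, 2, 4, 8], [6, 8, 2, 4, 8, 0], [8, 2, 0, 8, 4], [2, 8, 0, 2, 8, 4], [8, 2, 0, 8, 0], [8, 2, 0, 8, 0, 7], [7, 8, 0, 2, 8, 4], [0, 6, 8, 2, 4, 8, 0], [0, 8, 2, 0, 8, 4], [8, 2, 0, 8, 0, 2], [0, 8, 2, 0, 8, 0], [0, 8, 2, 0, 8, 0, 7], [8, 2, 0, 8, 2, 4], [8, 0, 2, 8], [6, 8, 2, 0, 8], [7, 8, 2, 4, 8], [8, 0, 2,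 8, 0], [2, 6, 8, 2, 4, 8], [2, 8, 2, 0, 8], [2, 8, 2, 0, 8, 2], [2, 0, 6, 8, 2, 4, 8], [2, 0, 8, 2, 0, 8], [0, 4, 8, 0, 2, 8], [8, 0, 2, 8, 2], [7, 4, 8, 2, 4, 8], [2, 8, 2, 0, 8, 4], [8, 0, 2, 8, 4, 6], [8, 0, 2, 8, 4], [7, 8, 2, 4, 8, 0], [2, 8, 2, 0, 8, 0], [8, 0, 2, 8, 0, 4], [7, 8, 2, 4, 8, 0, 2], [8, 0, 2, 8, 2, 0], [0, 4, 8, 0, 2, 8, 4], [8, 0, 2, 8, 2, 4], [7, 4, 8, 2, 4, 8, 0], [2, 8, 2, 0, 8, 2, 4], [6, 8, 0, 2, 8], [8, 2, 4, 8], [7, 8, 2, 0, 8], [2, 6, 8, 0, 2, 8], [2, 7, 8, 2, 0, 8], [2, 8, 2, 4, 8], [4, 6, 8, 0, 2, 8], [4, 8, 2, 4, 8], [4, 7, 8, 2, 0, 8], [2, 4, 6, 8, 0, 2, 8], [2, 4, 7, 8, 2, 0, 8], [2, 4, 8, 2, 4, 8], [8, 2, 4, 8, 0], [7, 8, 2, 0, 8, 4], [8, 2, 0, 8, 0, 8], [7, 8, 2, 0, 8, 0], [2, 8, 2, 4, 8, 0], [6, 8, 0, 2, 8, 4], [4,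 8, 2, 4, 8, 0], [4, 7, 8, 2, 0, 8, 4], [4, 8, 2, 0, 8, 0, 8], [4, 7, 8, 2, 0, 8, 0], [8, 2, 4, 8, 0, 2], [4, 6, 8, 0, 2, 8, 4], [4, 7, 8, 0, 2, 8], [4, 8, 2, 0, 8], [4, 6, 8, 2, 4, 8], [2, 0, 8, 0, 2, 8], [2, 0, 6, 8, 2, 0, 8], [2, 0, 7, 8, 2, 4, 8], [4, 8, 2, 0, 8, 2], [6, 0, 8, 2, 4, 8], [0, 4, 8, 2, 0, 8], [2, 4, 8, 0, 2, 8], [2, 4, 7, 8, 2, 4, 8], [2, 0, 8, 0, 2, 8, 2], [0, 4, 8, 2, 0, 8, 4], [6, 0, 8, 2, 4, 8, 0], [2, 0, 8, 0, 2, 8, 4], [4, 8, 2, 0, 8, 0], [4, 8, 2, 0, 8, 0, 7], [4, 7, 8, 0, 2, 8, 4], [4, 6, 8, 2, 4, 8, 0], [4, 8, 2, 0, 8, 4], [2, 4, 8, 0, 2, 8, 4], [0, 4, 8, 2, 0, 8, 0, 7], [0, 4, 8, 2, 0, 8, 0], [4, 8, 2, 0, 8, 2, 4], [0, 8, 0, 2, 8], [0, 6, 8, 2, 0, 8], [0, 7, 8, 2, 4, 8], [4, 8, 0, 2, 8], [4, 7, 8, 2, 4, 8], [0, 8, 0, 2, 8, 2],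 [0, 8, 0, 2, 8, 0], [0, 2, 6, 8, 2, 4, 8], [0, 2, 8, 2, 0, 8], [4, 8, 0, 2, 8, 0], [2, 4, 8, 2, 0, 8], [2, 4, 6, 8, 2, 4, 8], [0, 2, 8, 2, 0, 8, 4], [0, 8, 0, 2, 8, 4, 6], [0, 8, 0, 2, 8, 4], [4, 7, 8, 2, 4, 8, 0], [0, 8, 0, 2, 8, 2, 4], [4, 8, 0, 2, 8, 0, 4], [0, 8, 0, 2, 8, 2, 0], [4, 8, 0, 2, 8, 4, 6], [4, 8, 0, 2, 8, 4], [0, 7, 8, 2, 4, 8, 0], [0, 2, 8, 2, 0, 8, 0], [0, 8, 0, 2, 8, 0, 4], [0, 6, 8, 0, 2, 8], [0, 8, 2, 4, 8], [0, 7, 8, 2, 0, 8], [2, 0, 6, 8, 0, 2, 8], [2, 0, 8, 2, 4, 8], [2, 0, 7, 8, 2, 0, 8], [6, 0, 8, 0, 2, 8], [7, 4, 8, 2, 0, 8], [0, 4, 8, 2, 4, 8], [0, 2, 6, 8, 0, 2, 8], [0, 2, 7, 8, 2, 0, 8], [0, 2, 8, 2, 4, 8], [0, 8, 2, 4, 8, 0], [0, 7, 8, 2, 0, 8, 4], [0, 8, 2, 0, 8, 0, 8], [0, 8, 2, 4, 8, 0, 2], [7, 4, 8, 2, 0, 8, 0], [6,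 0, 8, 0, 2, 8, 4], [7, 4, 8, 2, 0, 8, 4], [0, 4, 8, 2, 4, 8, 0], [0, 4, 8, 2, 0, 8, 0, 8], [0, 7, 8, 2, 0, 8, 0], [0, 2, 8, 2, 4, 8, 0], [0, 6, 8, 0, 2, 8, 4]]
noncomputable def PW : List (List ℕ) := [[], [1], [2], [3], [4], [1, 1], [2, 1], [3, 1], [4, 1], [2, 1, 1], [3, 1, 1], [4, 1, 1]]
noncomputable def TW : List (List ℕ) := [[5, 0, 5, 1, 5], [5, 3, 0, 5, 2, 1, 5], [5, 0, 0, 5, 1, 1, 5], [5, 4, 0, 0, 5, 2, 1, 1, 5], [5, 2, 0, 5, 4, 1, 5], [5, 4, 0, 5, 3, 1, 5], [5, 2, 0, 0, 5, 3, 1, 1, 5], [5, 3, 0, 0, 5, 4, 1, 1, 5], [5, 1, 0, 0, 5, 5], [5, 4, 1, 0, 0, 5, 2, 5], [5, 2, 1, 0, 0, 5, 3, 5], [5, 3, 1, 0, 0, 5, 4, 5], [5, 5, 1, 0, 5], [5, 5, 3, 1, 5], [5, 0, 5, 2, 5], [5, 0, 5, 4, 5], [5, 0, 5, 1, 1, 5], [5, 3, 0, 5, 3, 5], [5, 4, 0, 5, 5], [0, 5, 3, 1,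 0, 5], [5, 2, 5], [5, 0, 0, 5]]
noncomputable def qH : List ℕ → List ℕ → Bool := eqB 5 JTH.m_ts [4, 3, 0]
noncomputable def qY : List ℕ → List ℕ → Bool := eqB 4 JTY.m_ts [2, 1, 0]
theorem orcH : Orc JTH.γ ⊤ qH WH := by
  obtain ⟨φ, C⟩ := JTH.cert
  exact C.orc rfl (by decide +kernel)
theorem orcY : Orc JTY.γ ⊤ qY WY := by
  obtain ⟨φ, C⟩ := JTY.cert
  exact C.orc rfl (by decide +kernel)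
theorem c_inv : clsB qH WH [[100, 100]] (cl [[]] [] ++ cl [[]] [8] ++ cl Gx [0] ++ cl Ga [10]) = true := by decide +kernel
theorem c_a : clsB qH WH [[100, 10, 101, 11]] (List.map (fun s => ([], s)) EA) = true := by decide +kernel
theorem c_3P : clsB qH WH [[100, 0, 101, 1], [100, 100, 100]] (cl [[]] [] ++ cl G1 [4] ++ cl G2 [5]) = true := by decide +kernel
theorem c_3Ps : (allL (G1 ++ G2) fun g => allL [[100, 0, 101, 1]] fun u => qH (sb g u) []) = true := by decide +kernel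
theorem c_ni : clsB qH WH [[100, 0, 101, 1], [100, 4, 101, 4]] ([]) = true := by decide +kernel
noncomputable def S12 : List (List ℕ) := [[], [4], [4, 4], [8], [8, 4], [8, 4, 4], [0], [0, 4], [0, 4, 4], [8, 0], [8, 0, 4], [8, 0, 4, 4]]
theorem c_xr : clsB qH WH [[100, 0, 101, 1], [100, 4, 101, 5]] (List.map (fun s => ([], s)) S12) = true := by decide +kernel
noncomputable def S24 : List (List ℕ) := [[], [4], [4, 4], [0, 6], [0, 6, 4], [0, 6, 4, 4], [0, 6, 0, 6], [0, 6, 0, 6, 4], [0, 6, 0, 6, 4, 4], [0, 6, 0, 6, 0, 6], [0, 6, 0, 6, 0, 6, 4], [0, 6, 0, 6, 0, 6, 4, 4], [0], [0, 4], [0, 4, 4], [0, 0, 6], [0, 0, 6, 4], [0, 0, 6, 4, 4], [0, 0, 6, 0, 6], [0, 0, 6, 0, 6, 4], [0, 0, 6, 0, 6, 4, 4], [0, 0, 6, 0, 6, 0, 6], [0, 0, 6, 0, 6, 0, 6, 4], [0, 0, 6, 0,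 6, 0, 6, 4, 4]]
theorem c_r : clsB qH WH [[100, 4, 101, 5]] (List.map (fun s => ([], s)) S24) = true := by decide +kernel
noncomputable def W7 : List (List ℕ) := [[], [6], [4, 6, 5], [5, 6, 4], [8], [4, 8, 5], [5, 8, 4]]
noncomputable def D5 : List (List ℕ) := [[8], [0], [4], [10], [12]]
theorem c_W : clsB qH WH [[100, 0, 101, 1], [100, 100], [100, 4, 100, 5, 5, 100, 4]] (List.map (fun s => ([], s)) (W7.map (expand (dbl D5)))) = true := by decide +kernel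
theorem c_xa : clsB qH WH [[100, 100], [100, 0, 101, 1]] (cl [[]] [] ++ cl [[]] [8] ++ cl [[]] [0] ++ cl [[]] [8, 0] ++ cl Gb [10]) = true := by decide +kernel
theorem c_3 : clsB qH WH [[100, 100, 100]] (cl [[]] [] ++ cl G3 [4]) = true := by decide +kernel
theorem c_N : (allL WH fun w => Bool.rec true (allL [[100, 0, 101, 1]] fun u => qH (sb w u) [])
    (allL [[100, 0, 101, 10, 100, 1, 101, 11], [100, 10, 101, 10, 100, 11, 101, 11]] fun u => qH (sb w u) [])) = true := by decide +kernel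
noncomputable def TY : List (List ℕ × List ℕ) := cl [[]] [] ++ cl [[], [2], [6], [8], [2, 8], [6, 8], [8, 0], [8, 2], [8, 4], [2, 8, 0], [2, 8, 2], [2, 8, 4], [6, 8, 0], [6, 8, 2], [6, 8, 4], [8, 0, 2], [8, 0, 4], [8, 0, 7], [8, 2, 0], [8, 2, 4], [8, 4, 6], [2, 8, 0, 2], [2, 8, 2, 0], [2, 8, 2, 4], [6, 8, 0, 2], [6, 8, 2, 0], [6, 8, 2, 4], [8, 0, 2, 8], [8, 2, 0, 8], [8, 2, 4, 8], [2, 8, 0, 2, 8], [2, 8, 2, 0, 8], [2, 8, 2, 4, 8], [6, 8, 0, 2, 8], [6, 8, 2, 0, 8], [6, 8, 2, 4, 8], [8, 0, 2, 8, 4], [8, 2, 0, 8, 0], [8, 2, 4, 8, 0], [2, 8, 0, 2, 8, 4], [2, 8, 2, 0, 8, 0], [2, 8, 2, 0, 8, 4], [2, 8, 2, 4, 8, 0], [6, 8, 0, 2, 8, 4], [6, 8, 2, 4, 8, 0]] [0] ++ cl [[], [0], [2], [4], [0, 2], [0, 4], [0, 8], [2, 0], [2, 4], [4, 8], [0, 2, 8], [0, 4, 8], [0,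 8, 0], [0, 8, 2], [0, 8, 4], [2, 0, 8], [2, 4, 8], [4, 8, 0], [4, 8, 2], [0, 2, 8, 2], [0, 2, 8, 4], [0, 4, 8, 2], [0, 4, 8, 4], [0, 8, 0, 2], [0, 8, 0, 7], [0, 8, 2, 0], [0, 8, 2, 4], [2, 4, 8, 2], [4, 8, 0, 2], [4, 8, 2, 0], [0, 2, 8, 2, 0], [0, 2, 8, 2, 4], [0, 8, 0, 2, 8], [0, 8, 2, 4, 8], [4, 8, 0, 2, 8], [4, 8, 2, 0, 8], [0, 2, 8, 2, 0, 8], [0, 2, 8, 2, 4, 8], [4, 8, 0, 2, 8, 4], [4, 8, 2, 0, 8, 4]] [6] ++ cl [[], [0], [6], [7], [8], [0, 6], [0, 7], [0, 8], [6, 8], [7, 8], [8, 0], [8, 2], [8, 4], [0, 6, 8], [0, 7, 8], [0, 8, 0], [0, 8, 2], [0, 8, 4], [6, 8, 0], [6, 8, 2], [6, 8, 4], [7, 8, 0], [7, 8, 2], [7, 8, 4], [8, 0, 2], [8, 0, 4], [8, 0, 7], [8, 0, 8], [8, 2, 0], [8, 2, 4], [8, 4, 6], [0, 6, 8, 0], [0, 6, 8, 2], [0, 6, 8, 4], [0, 7, 8, 0],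 [0, 7, 8, 2], [0, 7, 8, 4], [0, 8, 0, 2], [0, 8, 0, 4], [0, 8, 2, 0], [0, 8, 2, 4], [0, 8, 4, 6], [6, 8, 0, 2], [6, 8, 2, 0], [6, 8, 2, 4], [7, 8, 0, 2], [7, 8, 2, 0], [7, 8, 2, 4], [8, 0, 2, 8], [8, 0, 8, 2], [8, 2, 0, 8], [8, 2, 4, 8], [0, 6, 8, 0, 2], [0, 6, 8, 2, 4], [0, 7, 8, 0, 2], [0, 7, 8, 2, 0], [0, 7, 8, 2, 4], [0, 8, 0, 2, 8], [0, 8, 2, 0, 8], [0, 8, 2, 4, 8], [6, 8, 0, 2, 8], [6, 8, 2, 0, 8], [6, 8, 2, 4, 8], [7, 8, 0, 2, 8], [7, 8, 2, 0, 8], [7, 8, 2, 4, 8], [8, 0, 2, 8, 0], [8, 0, 2, 8, 2], [8, 0, 2, 8, 4], [8, 2, 0, 8, 0], [8, 2, 0, 8, 4], [8, 2, 4, 8, 0], [0, 6, 8, 0, 2, 8], [0, 6, 8, 2, 4, 8], [0, 7, 8, 2, 0, 8], [0, 7, 8, 2, 4, 8], [0, 8, 0, 2, 8, 4], [0, 8, 2, 0, 8, 0], [0, 8, 2, 0, 8, 4], [0, 8, 2, 4, 8, 0], [6, 8, 0, 2, 8, 4], [6,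 8, 2, 4, 8, 0], [7, 8, 0, 2, 8, 4], [7, 8, 2, 0, 8, 0], [7, 8, 2, 0, 8, 4], [7, 8, 2, 4, 8, 0], [8, 0, 2, 8, 0, 4], [8, 0, 2, 8, 4, 6], [8, 2, 0, 8, 0, 7], [8, 2, 0, 8, 0, 8]] [0, 2] ++ cl [[], [0], [2], [4], [6], [7], [0, 2], [0, 4], [0, 6], [0, 7], [2, 0], [2, 4], [2, 6], [2, 7], [2, 8], [4, 6], [4, 7], [4, 8], [7, 4], [0, 2, 6], [0, 2, 7], [0, 2, 8], [2, 0, 6], [2, 0, 7], [2, 0, 8], [2, 4, 6], [2, 4, 7], [2, 4, 8], [2, 6, 8], [2, 7, 8], [2, 8, 0], [2, 8, 4], [0, 2, 6, 8], [0, 2, 7, 8], [0, 2, 8, 0], [0, 2, 8, 4], [2, 0, 6, 8], [2, 0, 7, 8], [2, 0, 8, 0], [2, 0, 8, 2], [2, 0, 8, 4], [2, 4, 6, 8], [2, 4, 8, 0], [2, 4, 8, 4], [2, 6, 8, 0], [2, 6, 8, 4], [2, 7, 8, 0], [2, 7, 8, 4], [2, 8, 0, 2], [2, 8, 0, 4], [2, 8, 0, 7], [2, 8, 0, 8], [2, 8, 4, 6], [0,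 2, 6, 8, 0], [0, 2, 6, 8, 4], [0, 2, 7, 8, 0], [0, 2, 7, 8, 4], [0, 2, 8, 4, 6], [2, 0, 6, 8, 0], [2, 0, 6, 8, 4], [2, 0, 7, 8, 0], [2, 0, 7, 8, 4], [2, 0, 8, 0, 2], [2, 0, 8, 0, 4], [2, 0, 8, 0, 7], [2, 0, 8, 0, 8], [2, 0, 8, 2, 0], [2, 0, 8, 2, 4], [2, 0, 8, 4, 6], [2, 4, 6, 8, 0], [2, 4, 6, 8, 4], [2, 4, 8, 0, 4]] [0, 8] ++ cl [[], [0], [2], [4], [6], [7], [8], [0, 2], [0, 6], [0, 7], [0, 8], [2, 0], [2, 4], [2, 6], [2, 7], [2, 8], [4, 6], [6, 0], [6, 8], [0, 2, 6], [0, 2, 7], [0, 2, 8], [0, 8, 2], [2, 0, 6], [2, 0, 7], [2, 0, 8], [2, 4, 7], [2, 4, 8], [2, 6, 8], [2, 7, 8], [2, 8, 0], [2, 8, 4], [0, 2, 6, 8], [0, 2, 7, 8], [0, 2, 8, 0], [0, 2, 8, 2], [0, 2, 8, 4], [2, 0, 6, 8], [2, 0, 7, 8], [2, 0, 8, 0], [2, 0, 8, 4], [2, 4, 7, 8], [2, 4, 8, 0], [2,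 4, 8, 4], [2, 6, 8, 0], [2, 6, 8, 4], [2, 7, 8, 0], [2, 7, 8, 4], [2, 8, 0, 2], [2, 8, 0, 4], [2, 8, 0, 7], [2, 8, 0, 8], [2, 8, 4, 6], [0, 2, 6, 8, 0], [0, 2, 6, 8, 4], [0, 2, 7, 8, 0], [0, 2, 7, 8, 4], [0, 2, 8, 0, 2], [0, 2, 8, 0, 4], [0, 2, 8, 2, 0], [0, 2, 8, 2, 4], [0, 2, 8, 4, 6], [2, 0, 6, 8, 0], [2, 0, 6, 8, 4], [2, 0, 7, 8, 0], [2, 0, 7, 8, 4], [2, 0, 8, 0, 7], [2, 0, 8, 4, 6], [2, 4, 7, 8, 0], [2, 4, 7, 8, 4], [2, 4, 8, 0, 4], [2, 4, 8, 4, 6]] [0, 4, 8] ++ cl [[], [0], [2], [4], [0, 2], [0, 4], [0, 8], [2, 0], [2, 4], [4, 8], [0, 2, 8], [0, 4, 8], [0, 8, 0], [0, 8, 2], [0, 8, 4], [2, 0, 8], [2, 4, 8], [4, 8, 0], [4, 8, 2], [0, 2, 8, 2], [0, 2, 8, 4], [0, 4, 8, 2], [0, 4, 8, 4], [0, 8, 0, 2], [0, 8, 0, 7], [0, 8, 2, 0], [0, 8, 2, 4], [2, 4,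 8, 2], [4, 8, 0, 2], [4, 8, 2, 0], [0, 2, 8, 2, 0], [0, 2, 8, 2, 4], [0, 8, 0, 2, 8], [0, 8, 2, 4, 8], [4, 8, 0, 2, 8], [4, 8, 2, 0, 8], [0, 2, 8, 2, 0, 8], [0, 2, 8, 2, 4, 8], [4, 8, 0, 2, 8, 4], [4, 8, 2, 0, 8, 4]] [2, 6, 8]
theorem c_Y : clsB qY WY [] (TY) = true := by decide +kernel
noncomputable def CY : List (List ℕ × List (List ℕ × ℕ)) := [([0], [([7], 0)]), ([6], [([], 0), ([1, 3], 0)]), ([0, 2], [([], 0), ([], 0)]), ([0, 8], [([9, 7, 3], 0), ([7, 5, 9, 3, 1], 0)]), ([0, 4, 8], [([9, 7, 3], 0), ([1, 9, 6, 1, 3], 0)]), ([2, 6, 8], [([9, 3, 1], 0), ([1, 3, 9, 3, 1], 0)])]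
theorem c_Y2 : (allL TY fun p => beqL p.2 [] || anyL CY fun s => beqL p.2 s.1 && qY (cjW [s.1] s.2) [4]) = true := by decide +kernel
theorem c_U : clsB qY WY [[100, 100, 100], [0, 100, 0, 100], [100, 4, 101, 3]] (List.map (fun s => ([], s)) [[8, 0, 2, 0, 8, 0], [8, 0, 2, 0, 8, 0, 2]]) = true := by decide +kernel
noncomputable def cs0 : List ℕ := [0x5764dfec9ba81320, 0x7654fedcba983210, 0xdcfe89ab67453210, 0xcdefab8954763210, 0xefcd98ba45673210]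
noncomputable def cK : ℕ := 0xae62bf739d518c40

end Cfsg.Agent.JT
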