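import Cfsg.Agent.CGT.Cons

set_option autoImplicit false
set_option Elab.async false
set_option maxRecDepth 100000
set_option linter.all false

namespace Cfsg.Agent.JT
open Cfsg.Agent.CGT

noncomputable def RHX : List (List ℕ) := [[0, 0], [6, 6], [8, 8], [10, 10], [12, 12], [14, 14], [2, 2, 2, 2, 2], [4, 4, 4], [3, 4, 3, 4, 3, 4], [2, 4, 2, 4, 2, 4, 2, 4, 2, 4], [2, 2, 4, 2, 2, 4], [0, 4, 0, 5], [6, 4, 6, 5], [0, 6, 0, 6, 0, 6, 0, 6], [0, 2, 0, 2, 0, 2, 0, 2, 0, 2], [8, 2, 8, 3], [2, 0, 3, 6], [0, 6, 0, 6, 8], [2, 5, 2, 2, 10], [6, 10, 6, 12], [2, 4, 3, 5, 2, 14], [14, 0, 14, 6], [14, 4, 14, 4], [8, 0, 8, 0], [8, 6, 8, 6], [8, 4, 8, 5], [14, 8, 14, 8], [12, 5, 12, 4, 4, 12, 5]]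
noncomputable def RG0 : List (List ℕ) := [[16, 16, 16], [16, 4, 17, 5], [6, 16, 6, 16], [16, 8, 17, 1], [16, 0, 17, 1, 9], [16, 10, 17, 4, 11, 5], [18, 16, 4, 19, 5, 17], [18, 8, 19, 11], [18, 0, 19, 5, 11, 4], [18, 18], [18, 16, 18, 16], [18, 12, 18, 12, 18, 12], [18, 4, 12, 5, 18, 4, 12, 5, 18, 4, 12, 5, 18, 4, 12, 5, 18, 4, 12, 5], [18, 5, 12, 4, 18, 5, 12, 4, 18, 5, 12, 4, 18, 5, 12, 4, 18, 5, 12, 4], [18, 6, 18, 6, 18, 21]]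
noncomputable def R1 : List (List ℕ) := [[0, 0], [6, 6], [8, 8], [10, 10], [12, 12], [14, 14], [2, 2, 2, 2, 2], [4, 4, 4], [3, 4, 3, 4, 3, 4], [2, 4, 2, 4, 2, 4, 2, 4, 2, 4], [2, 2, 4, 2, 2, 4], [0, 4, 0, 5], [6, 4, 6, 5], [0, 6, 0, 6, 0, 6, 0, 6], [0, 2, 0, 2, 0, 2, 0, 2, 0, 2], [8, 2, 8, 3], [2, 0, 3, 6], [0, 6, 0, 6, 8], [2, 5, 2, 2, 10], [6, 10, 6, 12], [2, 4, 3, 5, 2, 14], [14, 0, 14, 6], [14, 4, 14, 4], [8, 0, 8, 0], [8, 6, 8, 6], [8, 4, 8, 5], [14, 8, 14, 8], [16, 16, 16], [16, 4, 17, 5], [6, 16, 6, 16], [16, 10, 17, 4, 10, 5], [16, 8, 17, 0], [16, 0, 17, 0, 8], [18, 18], [18, 16, 18, 16], [18, 16, 4, 18, 5, 17], [18, 8, 18, 10], [18, 0, 18, 5, 10, 4], [18, 12, 18, 12, 18, 12], [20, 20], [18, 6, 18, 6, 18, 20], [20, 4, 20, 5], [20, 16, 20, 16], [20, 0, 20, 0, 20, 0, 20, 0, 20, 0], [20, 8, 20, 8, 20,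 8], [20, 8, 0, 20, 8, 0, 20, 8, 0, 20, 8, 0, 20, 8, 0]]
noncomputable def RN : List (List ℕ) := [[14, 16, 14, 14, 16, 14, 14, 16, 14], [0, 14, 16, 14, 0, 14, 16, 14], [14, 16, 14, 8, 15, 17, 15, 7], [14, 16, 14, 4, 15, 17, 15, 5], [14, 4, 15, 4]]
theorem r1_of {G : Type*} [Group G] {γ : ℕ → G} (h : Holds (ext γ) (RHX ++ RG0)) : Holds (ext γ) (R1 ++ RN) := by
  obtain ⟨D, h1, h2⟩ := h.consK (st := [([16, 10, 17, 4, 10, 5], [([4], 7), ([], 67)]),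
  ([16, 8, 17, 0], [([], 1), ([], 63)]),
  ([16, 0, 17, 0, 8], [([], 5), ([8], 1), ([], 65)]),
  ([18, 16, 4, 18, 5, 17], [([16, 4], 75), ([], 69)]),
  ([18, 8, 18, 10], [([18, 9], 75), ([18, 9, 18], 70), ([18], 5)]),
  ([18, 0, 18, 5, 10, 4], [([18, 0], 75), ([18, 0, 18, 18], 1), ([18, 0, 18], 72)]),
  ([20, 20], [([19, 7, 19, 6], 75), ([19, 7, 19, 6, 18, 18], 3), ([19, 7, 19, 6, 18], 84), ([], 75), ([18, 7], 75), ([18], 3), ([], 84)]),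
  ([18, 6, 18, 6, 18, 20], [([], 99), ([], 85)]),
  ([20, 18, 6, 19, 7, 19], [([], 99), ([20, 18], 75), ([20, 18, 18, 20], 100), ([20, 18], 3)]),
  ([0, 18, 6, 5, 13, 4, 7, 19], [([], 74), ([19], 2), ([19, 5], 25), ([19], 97), ([0, 18, 5, 7], 38), ([0, 18, 5, 7], 25)]),
  ([8, 18, 6, 13, 7, 19], [([], 74), ([19], 95), ([8, 18, 7], 38), ([8, 18], 3)]),
  ([8, 0, 18, 6, 4, 13, 5, 7, 19], [([8, 18, 6, 5, 12, 4, 4], 8), ([8, 18, 6, 5, 12, 4, 4, 13, 5], 55), ([8], 105), ([8, 0, 18, 6, 4, 13, 5, 12, 7, 19, 9], 107)]),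
  ([20, 0, 20, 0, 20, 0, 20, 0, 20, 0], [([18, 6], 83), ([18, 6, 18, 5, 12, 4, 18, 5, 12, 4, 18, 5, 12, 4, 18, 5, 12, 4, 18, 7, 19], 105), ([18, 6, 18, 5, 12, 4, 18, 5, 12, 4, 18, 5, 12, 4, 18, 5, 12, 4, 7, 19], 103), ([18, 6, 18, 5, 12, 4, 18, 5, 12, 4, 18, 5, 12, 4, 18, 7, 19], 105), ([18, 6, 18, 5, 12, 4, 18, 5, 12, 4, 18, 5, 12, 4, 7, 19], 103), ([18, 6, 18, 5, 12, 4, 18, 5, 12, 4, 18, 7, 19], 105), ([18, 6, 18, 5, 12, 4, 18, 5, 12, 4, 7, 19], 103), ([18, 6, 18, 5, 12, 4, 18, 7, 19], 105), ([18, 6, 18, 5, 12, 4, 7, 19], 103), ([18, 6, 18, 7, 19], 105), ([], 103)]),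
  ([20, 8, 20, 8, 20, 8], [([18, 6], 79), ([18, 6, 18, 12, 18, 12, 18, 7, 19], 107), ([18, 6, 18, 12, 18, 12, 7, 19], 103), ([18, 6, 18, 12, 18, 7, 19], 107), ([18, 6, 18, 12, 7, 19], 103), ([18, 6, 18, 7, 19], 107), ([], 103)]),
  ([20, 8, 0, 20, 8, 0, 20, 8, 0, 20, 8, 0, 20, 8, 0], [([18, 6], 81), ([18, 6, 18, 4, 12, 5, 18, 4, 12, 5, 18, 4, 12, 5, 18, 4, 12, 5, 18, 7, 19], 109), ([18, 6, 18, 4, 12, 5, 18, 4, 12, 5, 18, 4, 12, 5, 18, 4, 12, 5, 7, 19], 103), ([18, 6, 18, 4, 12, 5, 18, 4, 12, 5, 18, 4, 12, 5, 18, 7, 19], 109), ([18, 6, 18, 4, 12, 5, 18, 4, 12, 5, 18, 4, 12, 5, 7, 19], 103), ([18, 6, 18, 4, 12, 5, 18, 4, 12, 5, 18, 7, 19], 109), ([18, 6, 18, 4, 12, 5, 18, 4, 12, 5, 7, 19], 103), ([18, 6, 18, 4, 12, 5, 18, 7, 19], 109), ([18, 6, 18, 4, 12, 5, 7, 19], 103), ([18, 6, 18, 7, 19], 109), ([], 103)]),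
  ([18, 4, 18, 5, 16], [([], 75), ([18, 17, 19], 76), ([18, 17, 19], 57), ([18, 17, 19], 93)]),
  ([20, 16, 20, 16], [([17, 19], 3), ([17, 19, 17, 7], 60), ([17, 19, 17], 3), ([], 77), ([], 100), ([21, 19, 7, 16], 77), ([21, 19, 7, 16, 7, 19], 100), ([21, 19, 7, 16], 3), ([21, 19], 3), ([21, 19], 60), ([21, 19], 77), ([21, 16], 99), ([], 99)]),
  ([20, 4, 20, 5], [([18, 6], 75), ([18, 6, 18, 17, 19], 76), ([18, 6, 18, 17], 75), ([18, 6, 18, 6, 16], 61), ([18, 6, 18, 6, 16], 2), ([18, 6, 18, 6, 17], 56), ([18, 6, 18, 6, 17], 61), ([18, 6, 18, 6, 17, 6, 16], 116), ([18, 6, 18, 6, 17], 24), ([18, 6, 18, 6], 117), ([], 100), ([21, 4], 74), ([21, 4, 20], 101), ([21, 4, 20, 18, 6, 5], 61), ([21, 4, 20, 18, 6, 5], 24), ([21, 4, 20, 18, 5, 16], 75), ([21, 4, 20, 18, 5, 16], 116), ([], 99)]),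
  ([14, 16, 14, 14, 16, 14, 14, 16, 14], [([15, 17], 11), ([15, 16], 57), ([15, 16], 11), ([], 11)]),
  ([0, 14, 16, 14, 0, 14, 16, 14], [([0, 14], 2), ([0, 14, 16], 61), ([0, 14, 16], 2), ([0, 14, 16, 7, 16], 43), ([0, 14, 16], 43)]),
  ([14, 16, 14, 8, 15, 17, 15, 7], [([15, 1, 16, 9], 11), ([15, 1, 16, 9, 14], 52), ([15, 1, 16, 9, 14], 5), ([15], 89), ([15, 16, 14, 8, 15, 17, 15], 42), ([], 11)]),
  ([14, 16, 14, 4, 15, 17, 15, 5], [([15, 16, 5], 10), ([15, 16], 45), ([15, 16, 14, 4, 15, 17], 58), ([15, 16, 14, 4, 15, 17, 15], 44), ([], 11)]),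
  ([14, 4, 15, 4], [([5], 10), ([], 45)])])
    (k := fun D => subR D (R1 ++ RN)) (by decide +kernel)
  exact h1.subR h2

end Cfsg.Agent.JT
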